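import Cfsg.Agent.ExcIsogeny.DataF4ConjA
import Cfsg.Agent.ExcIsogeny.DataF4ConjB
import Cfsg.Agent.ExcIsogeny.DataF4ConjC

/-! The exceptional isogeny of F₄. -/

set_option autoImplicit false
set_option maxHeartbeats 2000000

namespace CfsgLib.ExcIsogeny

theorem isoF4_ok : IsoOk isoF4 where
  good := CfsgLib.Chevalley.good_chevF4
  idx := by decide +kernel
  root r := by
    revert r
    decide +kernel
  conj r := by
    have h : (r : ℕ) / 4 < 12 := by have hr : (r : ℕ) < 48 := r.isLt; omega
    interval_cases hh : (r : ℕ) / 4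
    · exact chkConjFrom_spec isoF4 isoF4_conj0 (by omega) (by omega)
    · exact chkConjFrom_spec isoF4 isoF4_conj1 (by omega) (by omega)
    · exact chkConjFrom_spec isoF4 isoF4_conj2 (by omega) (by omega)
    · exact chkConjFrom_spec isoF4 isoF4_conj3 (by omega) (by omega)
    · exact chkConjFrom_spec isoF4 isoF4_conj4 (by omega) (by omega)
    · exact chkConjFrom_spec isoF4 isoF4_conj5 (by omega) (by omega)
    · exact chkConjFrom_spec isoF4 isoF4_conj6 (by omega) (by omega)
    · exact chkConjFrom_spec isoF4 isoF4_conj7 (by omega) (by omega)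
    · exact chkConjFrom_spec isoF4 isoF4_conj8 (by omega) (by omega)
    · exact chkConjFrom_spec isoF4 isoF4_conj9 (by omega) (by omega)
    · exact chkConjFrom_spec isoF4 isoF4_conj10 (by omega) (by omega)
    · exact chkConjFrom_spec isoF4 isoF4_conj11 (by omega) (by omega)

end CfsgLib.ExcIsogeny
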