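import Cfsg.Agent.ExcIsogeny.Hom
import Cfsg.Agent.Chevalley.GoodG2

/-! The exceptional isogeny of G2: generated tables, checked by the kernel. -/

set_option autoImplicit false
set_option maxHeartbeats 2000000

namespace CfsgLib.ExcIsogeny

def isoG2Lev : List ℕ :=
  [0, 1, 1, 1, 0, 0, 0, 1, 1, 0, 0, 0, 1, 1]

def isoG2Qpos : List ℕ :=
  [1, 2, 3, 7, 8, 12, 13]

def isoG2Qinv : List ℕ :=
  [7, 0, 1, 2, 7, 7, 7, 3, 4, 7, 7, 7, 5, 6]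

def isoG2Rho : List ℕ :=
  [2, 3, 0, 1, 5, 4, 7, 6, 10, 11, 8, 9]

def isoG2Exp : List ℕ :=
  [1, 1, 3, 3, 3, 1, 1, 3, 3, 3, 1, 1]

def isoG2TTc0 : List (List (List (ℕ × ℕ × ℤ))) :=
  [[[(0, 0, 1), (1, 1, 1), (2, 2, 1), (3, 3, 1), (4, 4, 1), (5, 5, 1), (6, 6, 1)], [(0, 6, 1), (1, 0, 1), (2, 4, 1), (3, 5, 2)], [(1, 6, 2)], []], [[(0, 0, 1), (1, 1, 1), (2, 2, 1), (3, 3, 1), (4, 4, 1), (5, 5, 1), (6, 6, 1)], [(0, 5, 2), (1, 3, 1), (2, 0, 2), (4, 6, 2)], [(2, 5, 2)], []], [[(0, 0, 1), (1, 1, 1), (2, 2, 1), (3, 3, 1), (4, 4, 1), (5, 5, 1), (6, 6, 1)], [(1, 5, 1), (2, 6, 2)], [], []], [[(0, 0, 1), (1, 1, 1), (2, 2, 1), (3, 3, 1), (4, 4, 1), (5, 5, 1), (6, 6, 1)], [(1, 4, 1), (3, 6, 2)], [], []], [[(0, 0, 1), (1, 1, 1), (2, 2, 1), (3, 3, 1), (4, 4, 1), (5, 5, 1), (6, 6, 1)], [(2, 3, 2), (4,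 5, 1)], [], []], [[(0, 0, 1), (1, 1, 1), (2, 2, 1), (3, 3, 1), (4, 4, 1), (5, 5, 1), (6, 6, 1)], [(0, 4, 2), (1, 2, 2), (3, 0, 2), (5, 6, 1)], [(3, 4, 2)], []], [[(0, 0, 1), (1, 1, 1), (2, 2, 1), (3, 3, 1), (4, 4, 1), (5, 5, 1), (6, 6, 1)], [(0, 3, 1), (2, 1, 2), (4, 0, 1), (6, 5, 1)], [(4, 3, 2)], []], [[(0, 0, 1), (1, 1, 1), (2, 2, 1), (3, 3, 1), (4, 4, 1), (5, 5, 1), (6, 6, 1)], [(3, 2, 2), (5, 4, 1)], [], []]]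

def isoG2TTc1 : List (List (List (ℕ × ℕ × ℤ))) :=
  [[[(0, 0, 1), (1, 1, 1), (2, 2, 1), (3, 3, 1), (4, 4, 1), (5, 5, 1), (6, 6, 1)], [(4, 1, 1), (6, 3, 2)], [], []], [[(0, 0, 1), (1, 1, 1), (2, 2, 1), (3, 3, 1), (4, 4, 1), (5, 5, 1), (6, 6, 1)], [(5, 1, 1), (6, 2, 2)], [], []], [[(0, 0, 1), (1, 1, 1), (2, 2, 1), (3, 3, 1), (4, 4, 1), (5, 5, 1), (6, 6, 1)], [(0, 2, 1), (3, 1, 1), (5, 0, 1), (6, 4, 2)], [(5, 2, 2)], []], [[(0, 0, 1), (1, 1, 1), (2, 2, 1), (3, 3, 1), (4, 4, 1), (5, 5, 1), (6, 6, 1)], [(0, 1, 2), (4, 2, 1), (5, 3, 2), (6, 0, 2)], [(6, 1, 2)], []]]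

def isoG2TT : List (List (List (ℕ × ℕ × ℤ))) :=
  isoG2TTc0 ++ isoG2TTc1

def isoG2ELc0 : List (List (List (ℕ × ℕ × ℤ))) :=
  [[[(0, 0, 1), (1, 1, 1), (2, 2, 1), (3, 3, 1), (4, 4, 1), (5, 5, 1), (6, 6, 1), (7, 7, 1), (8, 8, 1), (9, 9, 1), (10, 10, 1), (11, 11, 1), (12, 12, 1), (13, 13, 1)], [(0, 13, 2), (1, 13, 1), (2, 1, 1), (3, 8, 1), (4, 10, 1), (5, 11, 2), (7, 12, 2)], [(2, 13, 2)], []], [[(0, 0, 1), (1, 1, 1), (2, 2, 1), (3, 3, 1), (4, 4, 1), (5, 5, 1), (6, 6, 1), (7, 7, 1), (8, 8, 1), (9, 9, 1), (10, 10, 1), (11, 11, 1), (12, 12, 1), (13, 13, 1)], [(0, 12, 2), (1, 12, 2), (2, 7, 1), (3, 1, 2), (4, 9, 1), (6, 11, 2), (8, 13, 2)], [(3, 12, 2)], []], [[(0, 0, 1), (1, 1, 1), (2, 2, 1), (3, 3, 1), (4, 4, 1), (5, 5, 1), (6, 6, 1), (7, 7, 1), (8, 8, 1), (9, 9, 1), (10, 10, 1), (11, 11,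 1), (12, 12, 1), (13, 13, 1)], [(0, 11, 1), (4, 0, 1), (5, 9, 1), (6, 10, 2), (9, 12, 2), (10, 13, 2)], [(4, 11, 2), (5, 12, 1), (6, 13, 2)], [(2, 12, 1), (3, 13, 2)]], [[(0, 0, 1), (1, 1, 1), (2, 2, 1), (3, 3, 1), (4, 4, 1), (5, 5, 1), (6, 6, 1), (7, 7, 1), (8, 8, 1), (9, 9, 1), (10, 10, 1), (11, 11, 1), (12, 12, 1), (13, 13, 1)], [(0, 10, 2), (4, 6, 1), (5, 0, 2), (5, 1, 1), (6, 8, 1), (9, 11, 2), (11, 13, 1)], [(4, 8, 2), (5, 10, 2), (9, 13, 1)], [(2, 8, 1), (7, 13, 2)]]]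

def isoG2ELc1 : List (List (List (ℕ × ℕ × ℤ))) :=
  [[[(0, 0, 1), (1, 1, 1), (2, 2, 1), (3, 3, 1), (4, 4, 1), (5, 5, 1), (6, 6, 1), (7, 7, 1), (8, 8, 1), (9, 9, 1), (10, 10, 1), (11, 11, 1), (12, 12, 1), (13, 13, 1)], [(0, 9, 2), (4, 5, 2), (5, 7, 1), (6, 0, 2), (6, 1, 2), (10, 11, 1), (11, 12, 1)], [(4, 7, 1), (6, 9, 2), (10, 12, 2)], [(3, 7, 2), (8, 12, 1)]], [[(0, 0, 1), (1, 1, 1), (2, 2, 1), (3, 3, 1), (4, 4, 1), (5, 5, 1), (6, 6, 1), (7, 7, 1), (8, 8, 1), (9, 9, 1), (10, 10, 1), (11, 11, 1), (12, 12, 1), (13, 13, 1)], [(1, 8, 2), (2, 3, 2), (5, 6, 2), (7, 1, 2), (9, 10, 1), (12, 13, 1)], [(7, 8, 2)], []], [[(0, 0, 1), (1, 1, 1), (2, 2, 1), (3, 3, 1), (4, 4, 1), (5, 5, 1), (6, 6, 1), (7, 7, 1), (8, 8, 1), (9, 9, 1), (10, 10, 1), (11, 11, 1), (12, 12, 1), (13, 13, 1)], [(1, 7, 1),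 (3, 2, 2), (6, 5, 2), (8, 1, 1), (10, 9, 1), (13, 12, 1)], [(8, 7, 2)], []], [[(0, 0, 1), (1, 1, 1), (2, 2, 1), (3, 3, 1), (4, 4, 1), (5, 5, 1), (6, 6, 1), (7, 7, 1), (8, 8, 1), (9, 9, 1), (10, 10, 1), (11, 11, 1), (12, 12, 1), (13, 13, 1)], [(0, 6, 1), (4, 3, 2), (5, 4, 2), (9, 0, 1), (9, 1, 1), (10, 8, 2), (11, 10, 1)], [(5, 3, 2), (9, 6, 2), (11, 8, 1)], [(7, 3, 2), (12, 8, 1)]]]

def isoG2ELc2 : List (List (List (ℕ × ℕ × ℤ))) :=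
  [[[(0, 0, 1), (1, 1, 1), (2, 2, 1), (3, 3, 1), (4, 4, 1), (5, 5, 1), (6, 6, 1), (7, 7, 1), (8, 8, 1), (9, 9, 1), (10, 10, 1), (11, 11, 1), (12, 12, 1), (13, 13, 1)], [(0, 5, 1), (4, 2, 2), (6, 4, 1), (9, 7, 2), (10, 0, 1), (10, 1, 2), (11, 9, 2)], [(6, 2, 1), (10, 5, 2), (11, 7, 2)], [(8, 2, 1), (13, 7, 2)]], [[(0, 0, 1), (1, 1, 1), (2, 2, 1), (3, 3, 1), (4, 4, 1), (5, 5, 1), (6, 6, 1), (7, 7, 1), (8, 8, 1), (9, 9, 1), (10, 10, 1), (11, 11, 1), (12, 12, 1), (13, 13, 1)], [(0, 4, 2), (5, 2, 1), (6, 3, 1), (9, 5, 1), (10, 6, 2), (11, 0, 2)], [(9, 2, 2), (10, 3, 1), (11, 4, 2)], [(12, 2, 1), (13, 3, 2)]], [[(0, 0, 1), (1, 1, 1), (2, 2, 1), (3, 3, 1), (4, 4, 1), (5, 5, 1), (6, 6, 1), (7, 7, 1), (8, 8, 1), (9, 9, 1), (10, 10, 1), (11, 11, 1), (12, 12, 1), (13, 13, 1)], [(0, 3, 1), (1, 3,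 1), (7, 2, 1), (9, 4, 1), (11, 6, 2), (12, 1, 1), (13, 8, 2)], [(12, 3, 2)], []], [[(0, 0, 1), (1, 1, 1), (2, 2, 1), (3, 3, 1), (4, 4, 1), (5, 5, 1), (6, 6, 1), (7, 7, 1), (8, 8, 1), (9, 9, 1), (10, 10, 1), (11, 11, 1), (12, 12, 1), (13, 13, 1)], [(0, 2, 1), (1, 2, 2), (8, 3, 1), (10, 4, 1), (11, 5, 2), (12, 7, 2), (13, 1, 2)], [(13, 2, 2)], []]]

def isoG2EL : List (List (List (ℕ × ℕ × ℤ))) :=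
  isoG2ELc0 ++ isoG2ELc1 ++ isoG2ELc2

def isoG2Adc0 : List (List (ℕ × ℕ × ℤ)) :=
  [[(1, 1, 2), (2, 2, 1), (3, 3, 1), (4, 4, 2), (5, 5, 2), (6, 6, 1)], [(2, 2, 2), (3, 3, 1), (4, 4, 2), (5, 5, 1)], [(1, 5, 1), (2, 6, 2)], [(1, 4, 1), (3, 6, 2)], [(0, 6, 1), (1, 0, 1), (2, 4, 1), (3, 5, 2)], [(0, 5, 2), (1, 3, 1), (2, 0, 2), (4, 6, 2)], [(0, 4, 2), (1, 2, 2), (3, 0, 2), (5, 6, 1)], [(2, 3, 2), (4, 5, 1)], [(3, 2, 2), (5, 4, 1)], [(0, 3, 1), (2, 1, 2), (4, 0, 1), (6, 5, 1)], [(0, 2, 1), (3, 1, 1), (5, 0, 1), (6, 4, 2)], [(0, 1, 2), (4, 2, 1), (5, 3, 2), (6, 0, 2)]]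

def isoG2Adc1 : List (List (ℕ × ℕ × ℤ)) :=
  [[(4, 1, 1), (6, 3, 2)], [(5, 1, 1), (6, 2, 2)]]

def isoG2Ad : List (List (ℕ × ℕ × ℤ)) :=
  isoG2Adc0 ++ isoG2Adc1

def isoG2Lamc0 : List (List (ℕ × ℕ × ℤ)) :=
  [[(1, 1, 2)], [(1, 1, 2), (2, 2, 2)], [(1, 5, 1)], [(1, 4, 1)], [(0, 6, 1)], [(0, 5, 2)], [(0, 4, 2)], [(2, 3, 2)], [(3, 2, 2)], [(0, 3, 1)], [(0, 2, 1)], [(0, 1, 2)]]

def isoG2Lamc1 : List (List (ℕ × ℕ × ℤ)) :=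
  [[(4, 1, 1)], [(5, 1, 1)]]

def isoG2Lam : List (List (ℕ × ℕ × ℤ)) :=
  isoG2Lamc0 ++ isoG2Lamc1

/-- The data of the isogeny of G2. -/
def isoG2 : IsoData Cfsg.Lie.chevG2 where
  p := 3
  m := 7
  lev a := isoG2Lev.getD (code a) 0
  qpos i := (decode Cfsg.Lie.chevG2 (isoG2Qpos.getD i.val 0)).getD (.inl ⟨0, by decide⟩)
  qinv a := let q := isoG2Qinv.getD (code a) 7; if h : q < 7 then some ⟨q, h⟩ else none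
  rho r := Fin.ofNat 12 (isoG2Rho.getD r.val 0)
  e r := isoG2Exp.getD r.val 1
  TT r k := ((isoG2TT.getD r.val []).getD k []).map (smallEntry 7)
  EL r k := ((isoG2EL.getD r.val []).getD k []).map (coordEntry Cfsg.Lie.chevG2 (.inl ⟨0, by decide⟩))
  ad a := (isoG2Ad.getD (code a) []).map (smallEntry 7)
  lam a := (isoG2Lam.getD (code a) []).map (smallEntry 7)

theorem isoG2_conj0 : chkConjFrom isoG2 0 8 = true := by decide +kernel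

theorem isoG2_conj1 : chkConjFrom isoG2 8 8 = true := by decide +kernel

theorem isoG2_ok : IsoOk isoG2 where
  good := CfsgLib.Chevalley.good_chevG2
  idx := by decide +kernel
  root r := by
    revert r
    decide +kernel
  conj r := by
    have h : (r : ℕ) / 8 < 2 := by have hr : (r : ℕ) < 12 := r.isLt; omega
    interval_cases hh : (r : ℕ) / 8
    · exact chkConjFrom_spec isoG2 isoG2_conj0 (by omega) (by omega)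
    · exact chkConjFrom_spec isoG2 isoG2_conj1 (by omega) (by omega)

end CfsgLib.ExcIsogeny
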