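import Cfsg.Agent.ExcIsogeny.DataB2
import Cfsg.Agent.ExcIsogeny.DataG2
import Cfsg.Agent.ExcIsogeny.DataF4

/-! # The exceptional graph automorphisms over perfect fields -/

set_option autoImplicit false

namespace CfsgLib.ExcIsogeny

open Cfsg.Lie CfsgLib.Chevalley

variable {D : ChevalleyDatum} {md : IsoData D}

/-- The isogeny as an automorphism, for a perfect field of characteristic `p`. -/
noncomputable def alphaEquiv (h : IsoOk md) {K : Type*} [Field K] [CharP K md.p]
    (hp : md.p.Prime) (hperf : ∀ x : K, ∃ y : K, y ^ md.p = x) : ↥(D.group K) ≃* ↥(D.group K) :=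
  MulEquiv.ofBijective (alpha h) (alpha_bijective h hperf hp)

theorem alphaEquiv_x (h : IsoOk md) {K : Type*} [Field K] [CharP K md.p]
    (hp : md.p.Prime) (hperf : ∀ x : K, ∃ y : K, y ^ md.p = x) (g : ↥(D.group K)) {r : ℕ} {t : K}
    (hr : r < D.nroots) (hg : ((g : GL D.Idx K) : Matrix D.Idx D.Idx K) = D.x K r t) :
    ((alphaEquiv h hp hperf g : GL D.Idx K) : Matrix D.Idx D.Idx K) =
      D.x K (md.rho ⟨r, hr⟩) (t ^ md.e ⟨r, hr⟩) :=
  alpha_x h g (r := ⟨r, hr⟩) hg

/-- The action on fundamental roots and their negatives. -/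
def chkSimple (md : IsoData D) (L : List (ℕ × ℕ)) : Bool :=
  (List.finRange D.nroots).all fun r => (List.range D.rank).all fun i =>
    (decide ((r : ℕ) ≠ D.simple i) || (decide ((md.rho r : ℕ) = D.simple (L.getD i (0, 1)).1) &&
      decide (md.e r = (L.getD i (0, 1)).2))) &&
    (decide ((r : ℕ) ≠ D.neg (D.simple i)) ||
      (decide ((md.rho r : ℕ) = D.neg (D.simple (L.getD i (0, 1)).1)) &&
      decide (md.e r = (L.getD i (0, 1)).2)))

/-- A graph automorphism given by its action on fundamental roots and their negatives. -/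
theorem exists_graphAut (h : IsoOk md) {K : Type*} [Field K] [CharP K md.p]
    (hp : md.p.Prime) (hperf : ∀ x : K, ∃ y : K, y ^ md.p = x) (L : List (ℕ × ℕ))
    (hL : chkSimple md L = true) :
    ∃ α : ↥(D.group K) ≃* ↥(D.group K), ∀ (g : ↥(D.group K)) (i : ℕ) (t : K), i < D.rank →
      (((g : GL D.Idx K) : Matrix D.Idx D.Idx K) = D.x K (D.simple i) t →
        ((α g : GL D.Idx K) : Matrix D.Idx D.Idx K) =
          D.x K (D.simple (L.getD i (0, 1)).1) (t ^ (L.getD i (0, 1)).2)) ∧
      (((g : GL D.Idx K) : Matrix D.Idx D.Idx K) = D.x K (D.neg (D.simple i)) t →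
        ((α g : GL D.Idx K) : Matrix D.Idx D.Idx K) =
          D.x K (D.neg (D.simple (L.getD i (0, 1)).1)) (t ^ (L.getD i (0, 1)).2)) := by
  refine ⟨alphaEquiv h hp hperf, fun g i t hi => ?_⟩
  have hs := h.good.simple_lt hi
  have hn : D.neg (D.simple i) < D.nroots := by
    have e : D.neg (D.simple i) = ((⟨D.simple i, hs⟩ : Root D).rev : ℕ) :=
      h.good.neg_fin (⟨D.simple i, hs⟩ : Root D)
    rw [e]
    exact Fin.isLt _
  simp only [chkSimple, List.all_eq_true, List.mem_range, Bool.and_eq_true, Bool.or_eq_true,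
    decide_eq_true_eq] at hL
  constructor
  · intro hg
    obtain ⟨h1, h2⟩ := ((hL ⟨_, hs⟩ (List.mem_finRange _) i hi).1).resolve_left (not_not_intro rfl)
    rw [alphaEquiv_x h hp hperf g hs hg, h1, h2]
  · intro hg
    obtain ⟨h1, h2⟩ := ((hL ⟨_, hn⟩ (List.mem_finRange _) i hi).2).resolve_left (not_not_intro rfl)
    rw [alphaEquiv_x h hp hperf g hn hg, h1, h2]

end CfsgLib.ExcIsogeny
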