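import Cfsg.Agent.ExcIsogeny.Hom
import Cfsg.Agent.Chevalley.GoodB2

/-! The exceptional isogeny of B2: generated tables, checked by the kernel. -/

set_option autoImplicit false
set_option maxHeartbeats 2000000

namespace CfsgLib.ExcIsogeny

def isoB2Lev : List ℕ :=
  [0, 2, 2, 1, 1, 2, 2, 1, 1, 2]

def isoB2Qpos : List ℕ :=
  [3, 4, 7, 8]

def isoB2Qinv : List ℕ :=
  [4, 4, 4, 0, 1, 4, 4, 2, 3, 4]

def isoB2Rho : List ℕ :=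
  [1, 0, 3, 2, 5, 4, 7, 6]

def isoB2Exp : List ℕ :=
  [1, 2, 2, 1, 1, 2, 2, 1]

def isoB2TT : List (List (List (ℕ × ℕ × ℤ))) :=
  [[[(0, 0, 1), (1, 1, 1), (2, 2, 1), (3, 3, 1)], [(0, 2, 1), (1, 3, 1)], [], []], [[(0, 0, 1), (1, 1, 1), (2, 2, 1), (3, 3, 1)], [(0, 3, 1)], [], []], [[(0, 0, 1), (1, 1, 1), (2, 2, 1), (3, 3, 1)], [(1, 2, 1)], [], []], [[(0, 0, 1), (1, 1, 1), (2, 2, 1), (3, 3, 1)], [(0, 1, 1), (2, 3, 1)], [], []], [[(0, 0, 1), (1, 1, 1), (2, 2, 1), (3, 3, 1)], [(1, 0, 1), (3, 2, 1)], [], []], [[(0, 0, 1), (1, 1, 1), (2, 2, 1), (3, 3, 1)], [(2, 1, 1)], [], []], [[(0, 0, 1), (1, 1, 1), (2, 2, 1), (3, 3, 1)], [(3, 0, 1)], [], []], [[(0, 0, 1), (1, 1, 1), (2, 2, 1), (3, 3, 1)], [(2, 0, 1), (3, 1, 1)], [], []]]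

def isoB2ELc0 : List (List (List (ℕ × ℕ × ℤ))) :=
  [[[(0, 0, 1), (1, 1, 1), (2, 2, 1), (3, 3, 1), (4, 4, 1), (5, 5, 1), (6, 6, 1), (7, 7, 1), (8, 8, 1), (9, 9, 1)], [(0, 9, 1), (1, 9, 1), (3, 7, 1), (4, 8, 1)], [(2, 9, 1)], []], [[(0, 0, 1), (1, 1, 1), (2, 2, 1), (3, 3, 1), (4, 4, 1), (5, 5, 1), (6, 6, 1), (7, 7, 1), (8, 8, 1), (9, 9, 1)], [(0, 8, 1), (3, 1, 1), (4, 6, 1), (7, 9, 1)], [(2, 6, 1), (3, 8, 1), (5, 9, 1)], []], [[(0, 0, 1), (1, 1, 1), (2, 2, 1), (3, 3, 1), (4, 4, 1), (5, 5, 1), (6, 6, 1), (7, 7, 1), (8, 8, 1), (9, 9, 1)], [(0, 7, 1), (3, 5, 1), (4, 1, 1), (8, 9, 1)], [(2, 5, 1), (4, 7, 1), (6, 9, 1)], []], [[(0, 0, 1), (1, 1, 1), (2, 2, 1), (3, 3, 1), (4, 4, 1), (5, 5, 1), (6, 6, 1), (7, 7, 1), (8, 8, 1), (9, 9, 1)], [(1, 6, 1), (3, 4, 1), (7, 8, 1)], [(5, 6, 1)], []]]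

def isoB2ELc1 : List (List (List (ℕ × ℕ × ℤ))) :=
  [[[(0, 0, 1), (1, 1, 1), (2, 2, 1), (3, 3, 1), (4, 4, 1), (5, 5, 1), (6, 6, 1), (7, 7, 1), (8, 8, 1), (9, 9, 1)], [(1, 5, 1), (4, 3, 1), (8, 7, 1)], [(6, 5, 1)], []], [[(0, 0, 1), (1, 1, 1), (2, 2, 1), (3, 3, 1), (4, 4, 1), (5, 5, 1), (6, 6, 1), (7, 7, 1), (8, 8, 1), (9, 9, 1)], [(0, 4, 1), (3, 2, 1), (7, 1, 1), (8, 6, 1)], [(5, 2, 1), (7, 4, 1), (9, 6, 1)], []], [[(0, 0, 1), (1, 1, 1), (2, 2, 1), (3, 3, 1), (4, 4, 1), (5, 5, 1), (6, 6, 1), (7, 7, 1), (8, 8, 1), (9, 9, 1)], [(0, 3, 1), (4, 2, 1), (7, 5, 1), (8, 1, 1)], [(6, 2, 1), (8, 3, 1), (9, 5, 1)], []], [[(0, 0, 1), (1, 1, 1), (2, 2, 1), (3, 3, 1), (4, 4, 1), (5, 5, 1), (6, 6, 1), (7, 7, 1), (8, 8, 1), (9, 9, 1)], [(0, 2, 1), (1, 2, 1), (7, 3, 1), (8, 4, 1)], [(9, 2, 1)], []]]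

def isoB2EL : List (List (List (ℕ × ℕ × ℤ))) :=
  isoB2ELc0 ++ isoB2ELc1

def isoB2Ad : List (List (ℕ × ℕ × ℤ)) :=
  [[(0, 0, 1), (1, 1, 1), (2, 2, 1), (3, 3, 1)], [(1, 1, 1), (2, 2, 1)], [(0, 3, 1)], [(0, 2, 1), (1, 3, 1)], [(0, 1, 1), (2, 3, 1)], [(1, 2, 1)], [(2, 1, 1)], [(1, 0, 1), (3, 2, 1)], [(2, 0, 1), (3, 1, 1)], [(3, 0, 1)]]

def isoB2Lam : List (List (ℕ × ℕ × ℤ)) :=
  [[(0, 0, 1)], [(0, 0, 1), (1, 1, 1)], [(0, 3, 1)], [(0, 2, 1)], [(0, 1, 1)], [(1, 2, 1)], [(2, 1, 1)], [(1, 0, 1)], [(2, 0, 1)], [(3, 0, 1)]]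

/-- The data of the isogeny of B2. -/
def isoB2 : IsoData Cfsg.Lie.chevB2 where
  p := 2
  m := 4
  lev a := isoB2Lev.getD (code a) 0
  qpos i := (decode Cfsg.Lie.chevB2 (isoB2Qpos.getD i.val 0)).getD (.inl ⟨0, by decide⟩)
  qinv a := let q := isoB2Qinv.getD (code a) 4; if h : q < 4 then some ⟨q, h⟩ else none
  rho r := Fin.ofNat 8 (isoB2Rho.getD r.val 0)
  e r := isoB2Exp.getD r.val 1
  TT r k := ((isoB2TT.getD r.val []).getD k []).map (smallEntry 4)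
  EL r k := ((isoB2EL.getD r.val []).getD k []).map (coordEntry Cfsg.Lie.chevB2 (.inl ⟨0, by decide⟩))
  ad a := (isoB2Ad.getD (code a) []).map (smallEntry 4)
  lam a := (isoB2Lam.getD (code a) []).map (smallEntry 4)

theorem isoB2_conj0 : chkConjFrom isoB2 0 8 = true := by decide +kernel

theorem isoB2_ok : IsoOk isoB2 where
  good := CfsgLib.Chevalley.good_chevB2
  idx := by decide +kernel
  root r := by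
    revert r
    decide +kernel
  conj r := by
    have h : (r : ℕ) / 8 < 1 := by have hr : (r : ℕ) < 8 := r.isLt; omega
    interval_cases hh : (r : ℕ) / 8
    · exact chkConjFrom_spec isoB2 isoB2_conj0 (by omega) (by omega)

end CfsgLib.ExcIsogeny
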