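import Cfsg.Agent.ExcIsogeny.DataF4Tables

/-! The conjugation identity of the isogeny of F₄, part A1. -/

set_option autoImplicit false
set_option maxHeartbeats 2000000

namespace CfsgLib.ExcIsogeny

theorem isoF4_conj1 : chkConjFrom isoF4 4 4 = true := by decide +kernel

end CfsgLib.ExcIsogeny
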