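import Cfsg.Agent.ExcIsogeny.DataF4ConjA0
import Cfsg.Agent.ExcIsogeny.DataF4ConjA1
import Cfsg.Agent.ExcIsogeny.DataF4ConjA2
import Cfsg.Agent.ExcIsogeny.DataF4ConjA3

/-! The conjugation identity of the isogeny of F₄, part A (in four files). -/
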