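import Cfsg.Agent.ExcIsogeny.Hom
import Cfsg.Agent.Chevalley.GoodF4

/-! The exceptional isogeny of F4: generated tables, checked by the kernel. -/

set_option autoImplicit false
set_option maxHeartbeats 2000000

namespace CfsgLib.ExcIsogeny

def isoF4Lev : List ℕ :=
  [0, 0, 1, 1, 1, 1, 1, 0, 1, 1, 1, 0, 0, 0, 0, 0, 0, 0, 0, 1, 1, 1, 0, 0, 0, 1, 1, 1, 1, 1, 1, 0, 0, 0, 1, 1, 1, 0, 0, 0, 0, 0, 0, 0, 0, 1, 1, 1, 0, 1, 1, 1]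

def isoF4Qpos : List ℕ :=
  [2, 3, 4, 5, 6, 8, 9, 10, 19, 20, 21, 25, 26, 27, 28, 29, 30, 34, 35, 36, 45, 46, 47, 49, 50, 51]

def isoF4Qinv : List ℕ :=
  [26, 26, 0, 1, 2, 3, 4, 26, 5, 6, 7, 26, 26, 26, 26, 26, 26, 26, 26, 8, 9, 10, 26, 26, 26, 11, 12, 13, 14, 15, 16, 26, 26, 26, 17, 18, 19, 26, 26, 26, 26, 26, 26, 26, 26, 20, 21, 22, 26, 23, 24, 25]

def isoF4Rho : List ℕ :=
  [3, 7, 8, 0, 9, 11, 18, 1, 2, 4, 15, 5, 16, 21, 23, 10, 12, 19, 6, 17, 22, 13, 20, 14, 33, 27, 34, 25, 30, 41, 28, 35, 37, 24, 26, 31, 42, 32, 43, 45, 46, 29, 36, 38, 47, 39, 40, 44]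

def isoF4Exp : List ℕ :=
  [1, 1, 1, 2, 1, 1, 1, 2, 2, 2, 2, 2, 2, 2, 2, 1, 1, 1, 2, 2, 2, 1, 1, 1, 1, 1, 1, 2, 2, 2, 1, 1, 1, 2, 2, 2, 2, 2, 2, 2, 2, 1, 1, 1, 2, 1, 1, 1]

def isoF4TTc0 : List (List (List (ℕ × ℕ × ℤ))) :=
  [[[(0, 0, 1), (1, 1, 1), (2, 2, 1), (3, 3, 1), (4, 4, 1), (5, 5, 1), (6, 6, 1), (7, 7, 1), (8, 8, 1), (9, 9, 1), (10, 10, 1), (11, 11, 1), (12, 12, 1), (13, 13, 1), (14, 14, 1), (15, 15, 1), (16, 16, 1), (17, 17, 1), (18, 18, 1), (19, 19, 1), (20, 20, 1), (21, 21, 1), (22, 22, 1), (23, 23, 1), (24, 24, 1), (25, 25, 1)], [(0, 25, 1), (2, 1, 1), (3, 14, 1), (4, 16, 1), (5, 18, 1), (6, 19, 1), (8, 21, 1), (9, 22, 1), (11, 23, 1), (13, 24, 1)], [(2, 25, 1)], []], [[(0, 0, 1), (1, 1, 1), (2, 2, 1), (3, 3, 1), (4, 4, 1), (5, 5, 1), (6, 6, 1), (7, 7, 1), (8, 8, 1), (9, 9, 1), (10, 10, 1), (11, 11, 1), (12,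 12, 1), (13, 13, 1), (14, 14, 1), (15, 15, 1), (16, 16, 1), (17, 17, 1), (18, 18, 1), (19, 19, 1), (20, 20, 1), (21, 21, 1), (22, 22, 1), (23, 23, 1), (24, 24, 1), (25, 25, 1)], [(0, 24, 1), (1, 24, 1), (2, 13, 1), (3, 0, 1), (3, 1, 1), (4, 15, 1), (5, 17, 1), (7, 19, 1), (8, 20, 1), (10, 22, 1), (12, 23, 1), (14, 25, 1)], [(3, 24, 1)], []], [[(0, 0, 1), (1, 1, 1), (2, 2, 1), (3, 3, 1), (4, 4, 1), (5, 5, 1), (6, 6, 1), (7, 7, 1), (8, 8, 1), (9, 9, 1), (10, 10, 1), (11, 11, 1), (12, 12, 1), (13, 13, 1), (14, 14, 1), (15, 15, 1), (16, 16, 1), (17, 17, 1), (18, 18, 1), (19, 19, 1), (20, 20, 1), (21, 21, 1), (22, 22, 1), (23, 23, 1), (24, 24, 1), (25, 25, 1)], [(1, 23, 1), (2, 11, 1), (3, 12, 1), (4, 0, 1), (6, 17, 1), (7, 18, 1), (9, 20, 1), (10, 21, 1), (15, 24, 1), (16, 25, 1)], [(4, 23, 1)], []], [[(0, 0, 1), (1, 1, 1),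 (2, 2, 1), (3, 3, 1), (4, 4, 1), (5, 5, 1), (6, 6, 1), (7, 7, 1), (8, 8, 1), (9, 9, 1), (10, 10, 1), (11, 11, 1), (12, 12, 1), (13, 13, 1), (14, 14, 1), (15, 15, 1), (16, 16, 1), (17, 17, 1), (18, 18, 1), (19, 19, 1), (20, 20, 1), (21, 21, 1), (22, 22, 1), (23, 23, 1), (24, 24, 1), (25, 25, 1)], [(2, 20, 1), (3, 21, 1), (4, 22, 1), (5, 23, 1), (6, 24, 1), (7, 25, 1)], [], []], [[(0, 0, 1), (1, 1, 1), (2, 2, 1), (3, 3, 1), (4, 4, 1), (5, 5, 1), (6, 6, 1), (7, 7, 1), (8, 8, 1), (9, 9, 1), (10, 10, 1), (11, 11, 1), (12, 12, 1), (13, 13, 1), (14, 14, 1), (15, 15, 1), (16, 16, 1), (17, 17, 1), (18, 18, 1), (19, 19, 1), (20, 20, 1), (21, 21, 1), (22, 22, 1), (23, 23, 1), (24, 24, 1), (25, 25, 1)], [(1, 22, 1), (2, 9, 1), (3, 10, 1), (5, 0, 1), (6, 15, 1), (7, 16, 1), (11, 20, 1), (12, 21, 1), (17, 24, 1), (18, 25, 1)], [(5,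 22, 1)], []], [[(0, 0, 1), (1, 1, 1), (2, 2, 1), (3, 3, 1), (4, 4, 1), (5, 5, 1), (6, 6, 1), (7, 7, 1), (8, 8, 1), (9, 9, 1), (10, 10, 1), (11, 11, 1), (12, 12, 1), (13, 13, 1), (14, 14, 1), (15, 15, 1), (16, 16, 1), (17, 17, 1), (18, 18, 1), (19, 19, 1), (20, 20, 1), (21, 21, 1), (22, 22, 1), (23, 23, 1), (24, 24, 1), (25, 25, 1)], [(0, 21, 1), (1, 21, 1), (2, 8, 1), (4, 10, 1), (5, 12, 1), (6, 0, 1), (6, 1, 1), (7, 14, 1), (13, 20, 1), (15, 22, 1), (17, 23, 1), (19, 25, 1)], [(6, 21, 1)], []], [[(0, 0, 1), (1, 1, 1), (2, 2, 1), (3, 3, 1), (4, 4, 1), (5, 5, 1), (6, 6, 1), (7, 7, 1), (8, 8, 1), (9, 9, 1), (10, 10, 1), (11, 11, 1), (12, 12, 1), (13, 13, 1), (14, 14, 1), (15, 15, 1), (16, 16, 1), (17, 17, 1), (18, 18, 1), (19, 19, 1), (20, 20, 1), (21, 21, 1), (22, 22, 1), (23, 23, 1), (24, 24, 1), (25, 25, 1)], [(0, 20,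 1), (3, 8, 1), (4, 9, 1), (5, 11, 1), (6, 13, 1), (7, 1, 1), (14, 21, 1), (16, 22, 1), (18, 23, 1), (19, 24, 1)], [(7, 20, 1)], []], [[(0, 0, 1), (1, 1, 1), (2, 2, 1), (3, 3, 1), (4, 4, 1), (5, 5, 1), (6, 6, 1), (7, 7, 1), (8, 8, 1), (9, 9, 1), (10, 10, 1), (11, 11, 1), (12, 12, 1), (13, 13, 1), (14, 14, 1), (15, 15, 1), (16, 16, 1), (17, 17, 1), (18, 18, 1), (19, 19, 1), (20, 20, 1), (21, 21, 1), (22, 22, 1), (23, 23, 1), (24, 24, 1), (25, 25, 1)], [(2, 17, 1), (3, 18, 1), (4, 19, 1), (8, 23, 1), (9, 24, 1), (10, 25, 1)], [], []]]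

def isoF4TTc1 : List (List (List (ℕ × ℕ × ℤ))) :=
  [[[(0, 0, 1), (1, 1, 1), (2, 2, 1), (3, 3, 1), (4, 4, 1), (5, 5, 1), (6, 6, 1), (7, 7, 1), (8, 8, 1), (9, 9, 1), (10, 10, 1), (11, 11, 1), (12, 12, 1), (13, 13, 1), (14, 14, 1), (15, 15, 1), (16, 16, 1), (17, 17, 1), (18, 18, 1), (19, 19, 1), (20, 20, 1), (21, 21, 1), (22, 22, 1), (23, 23, 1), (24, 24, 1), (25, 25, 1)], [(2, 15, 1), (3, 16, 1), (5, 19, 1), (8, 22, 1), (11, 24, 1), (12, 25, 1)], [], []], [[(0, 0, 1), (1, 1, 1), (2, 2, 1), (3, 3, 1), (4, 4, 1), (5, 5, 1), (6, 6, 1), (7, 7, 1), (8, 8, 1), (9, 9, 1), (10, 10, 1), (11, 11, 1), (12, 12, 1), (13, 13, 1), (14, 14, 1), (15, 15, 1), (16, 16, 1), (17, 17, 1), (18, 18, 1), (19, 19, 1), (20, 20, 1), (21, 21, 1), (22, 22, 1), (23, 23, 1), (24, 24, 1), (25, 25, 1)], [(2, 12, 1), (4, 14, 1), (6, 18, 1), (9, 21, 1),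 (13, 23, 1), (15, 25, 1)], [], []], [[(0, 0, 1), (1, 1, 1), (2, 2, 1), (3, 3, 1), (4, 4, 1), (5, 5, 1), (6, 6, 1), (7, 7, 1), (8, 8, 1), (9, 9, 1), (10, 10, 1), (11, 11, 1), (12, 12, 1), (13, 13, 1), (14, 14, 1), (15, 15, 1), (16, 16, 1), (17, 17, 1), (18, 18, 1), (19, 19, 1), (20, 20, 1), (21, 21, 1), (22, 22, 1), (23, 23, 1), (24, 24, 1), (25, 25, 1)], [(3, 11, 1), (4, 13, 1), (7, 17, 1), (10, 20, 1), (14, 23, 1), (16, 24, 1)], [], []], [[(0, 0, 1), (1, 1, 1), (2, 2, 1), (3, 3, 1), (4, 4, 1), (5, 5, 1), (6, 6, 1), (7, 7, 1), (8, 8, 1), (9, 9, 1), (10, 10, 1), (11, 11, 1), (12, 12, 1), (13, 13, 1), (14, 14, 1), (15, 15, 1), (16, 16, 1), (17, 17, 1), (18, 18, 1), (19, 19, 1), (20, 20, 1), (21, 21, 1), (22, 22, 1), (23, 23, 1), (24, 24, 1), (25, 25, 1)], [(2, 10, 1), (5, 14, 1), (6, 16, 1), (11, 21, 1), (13, 22, 1), (17,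 25, 1)], [], []], [[(0, 0, 1), (1, 1, 1), (2, 2, 1), (3, 3, 1), (4, 4, 1), (5, 5, 1), (6, 6, 1), (7, 7, 1), (8, 8, 1), (9, 9, 1), (10, 10, 1), (11, 11, 1), (12, 12, 1), (13, 13, 1), (14, 14, 1), (15, 15, 1), (16, 16, 1), (17, 17, 1), (18, 18, 1), (19, 19, 1), (20, 20, 1), (21, 21, 1), (22, 22, 1), (23, 23, 1), (24, 24, 1), (25, 25, 1)], [(3, 9, 1), (5, 13, 1), (7, 15, 1), (12, 20, 1), (14, 22, 1), (18, 24, 1)], [], []], [[(0, 0, 1), (1, 1, 1), (2, 2, 1), (3, 3, 1), (4, 4, 1), (5, 5, 1), (6, 6, 1), (7, 7, 1), (8, 8, 1), (9, 9, 1), (10, 10, 1), (11, 11, 1), (12, 12, 1), (13, 13, 1), (14, 14, 1), (15, 15, 1), (16, 16, 1), (17, 17, 1), (18, 18, 1), (19, 19, 1), (20, 20, 1), (21, 21, 1), (22, 22, 1), (23, 23, 1), (24, 24, 1), (25, 25, 1)], [(4, 8, 1), (6, 11, 1), (7, 12, 1), (15, 20, 1), (16, 21, 1), (19, 23, 1)], [], []],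 [[(0, 0, 1), (1, 1, 1), (2, 2, 1), (3, 3, 1), (4, 4, 1), (5, 5, 1), (6, 6, 1), (7, 7, 1), (8, 8, 1), (9, 9, 1), (10, 10, 1), (11, 11, 1), (12, 12, 1), (13, 13, 1), (14, 14, 1), (15, 15, 1), (16, 16, 1), (17, 17, 1), (18, 18, 1), (19, 19, 1), (20, 20, 1), (21, 21, 1), (22, 22, 1), (23, 23, 1), (24, 24, 1), (25, 25, 1)], [(5, 8, 1), (6, 9, 1), (7, 10, 1), (17, 20, 1), (18, 21, 1), (19, 22, 1)], [], []], [[(0, 0, 1), (1, 1, 1), (2, 2, 1), (3, 3, 1), (4, 4, 1), (5, 5, 1), (6, 6, 1), (7, 7, 1), (8, 8, 1), (9, 9, 1), (10, 10, 1), (11, 11, 1), (12, 12, 1), (13, 13, 1), (14, 14, 1), (15, 15, 1), (16, 16, 1), (17, 17, 1), (18, 18, 1), (19, 19, 1), (20, 20, 1), (21, 21, 1), (22, 22, 1), (23, 23, 1), (24, 24, 1), (25, 25, 1)], [(1, 19, 1), (2, 6, 1), (3, 7, 1), (8, 0, 1), (9, 15, 1), (10, 16, 1), (11, 17, 1), (12, 18, 1), (20, 24,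 1), (21, 25, 1)], [(8, 19, 1)], []]]

def isoF4TTc2 : List (List (List (ℕ × ℕ × ℤ))) :=
  [[[(0, 0, 1), (1, 1, 1), (2, 2, 1), (3, 3, 1), (4, 4, 1), (5, 5, 1), (6, 6, 1), (7, 7, 1), (8, 8, 1), (9, 9, 1), (10, 10, 1), (11, 11, 1), (12, 12, 1), (13, 13, 1), (14, 14, 1), (15, 15, 1), (16, 16, 1), (17, 17, 1), (18, 18, 1), (19, 19, 1), (20, 20, 1), (21, 21, 1), (22, 22, 1), (23, 23, 1), (24, 24, 1), (25, 25, 1)], [(0, 18, 1), (1, 18, 1), (2, 5, 1), (4, 7, 1), (8, 12, 1), (9, 0, 1), (9, 1, 1), (10, 14, 1), (13, 17, 1), (15, 19, 1), (20, 23, 1), (22, 25, 1)], [(9, 18, 1)], []], [[(0, 0, 1), (1, 1, 1), (2, 2, 1), (3, 3, 1), (4, 4, 1), (5, 5, 1), (6, 6, 1), (7, 7, 1), (8, 8, 1), (9, 9, 1), (10, 10, 1), (11, 11, 1), (12, 12, 1), (13, 13, 1), (14, 14, 1), (15, 15, 1), (16, 16, 1), (17, 17, 1), (18, 18, 1), (19, 19, 1), (20, 20,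 1), (21, 21, 1), (22, 22, 1), (23, 23, 1), (24, 24, 1), (25, 25, 1)], [(0, 17, 1), (3, 5, 1), (4, 6, 1), (8, 11, 1), (9, 13, 1), (10, 1, 1), (14, 18, 1), (16, 19, 1), (21, 23, 1), (22, 24, 1)], [(10, 17, 1)], []], [[(0, 0, 1), (1, 1, 1), (2, 2, 1), (3, 3, 1), (4, 4, 1), (5, 5, 1), (6, 6, 1), (7, 7, 1), (8, 8, 1), (9, 9, 1), (10, 10, 1), (11, 11, 1), (12, 12, 1), (13, 13, 1), (14, 14, 1), (15, 15, 1), (16, 16, 1), (17, 17, 1), (18, 18, 1), (19, 19, 1), (20, 20, 1), (21, 21, 1), (22, 22, 1), (23, 23, 1), (24, 24, 1), (25, 25, 1)], [(2, 7, 1), (8, 14, 1), (9, 16, 1), (11, 18, 1), (13, 19, 1), (20, 25, 1)], [], []], [[(0, 0, 1), (1, 1, 1), (2, 2, 1), (3, 3, 1), (4, 4, 1), (5, 5, 1), (6, 6, 1), (7, 7, 1), (8, 8, 1), (9, 9, 1), (10, 10, 1), (11, 11, 1), (12, 12, 1), (13, 13, 1), (14, 14, 1), (15, 15, 1), (16, 16, 1), (17, 17,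 1), (18, 18, 1), (19, 19, 1), (20, 20, 1), (21, 21, 1), (22, 22, 1), (23, 23, 1), (24, 24, 1), (25, 25, 1)], [(3, 6, 1), (8, 13, 1), (10, 15, 1), (12, 17, 1), (14, 19, 1), (21, 24, 1)], [], []], [[(0, 0, 1), (1, 1, 1), (2, 2, 1), (3, 3, 1), (4, 4, 1), (5, 5, 1), (6, 6, 1), (7, 7, 1), (8, 8, 1), (9, 9, 1), (10, 10, 1), (11, 11, 1), (12, 12, 1), (13, 13, 1), (14, 14, 1), (15, 15, 1), (16, 16, 1), (17, 17, 1), (18, 18, 1), (19, 19, 1), (20, 20, 1), (21, 21, 1), (22, 22, 1), (23, 23, 1), (24, 24, 1), (25, 25, 1)], [(4, 5, 1), (9, 11, 1), (10, 12, 1), (15, 17, 1), (16, 18, 1), (22, 23, 1)], [], []], [[(0, 0, 1), (1, 1, 1), (2, 2, 1), (3, 3, 1), (4, 4, 1), (5, 5, 1), (6, 6, 1), (7, 7, 1), (8, 8, 1), (9, 9, 1), (10, 10, 1), (11, 11, 1), (12, 12, 1), (13, 13, 1), (14, 14, 1), (15, 15, 1), (16, 16, 1), (17, 17, 1), (18, 18, 1),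 (19, 19, 1), (20, 20, 1), (21, 21, 1), (22, 22, 1), (23, 23, 1), (24, 24, 1), (25, 25, 1)], [(0, 16, 1), (1, 16, 1), (2, 4, 1), (5, 7, 1), (8, 10, 1), (11, 0, 1), (11, 1, 1), (12, 14, 1), (13, 15, 1), (17, 19, 1), (20, 22, 1), (23, 25, 1)], [(11, 16, 1)], []], [[(0, 0, 1), (1, 1, 1), (2, 2, 1), (3, 3, 1), (4, 4, 1), (5, 5, 1), (6, 6, 1), (7, 7, 1), (8, 8, 1), (9, 9, 1), (10, 10, 1), (11, 11, 1), (12, 12, 1), (13, 13, 1), (14, 14, 1), (15, 15, 1), (16, 16, 1), (17, 17, 1), (18, 18, 1), (19, 19, 1), (20, 20, 1), (21, 21, 1), (22, 22, 1), (23, 23, 1), (24, 24, 1), (25, 25, 1)], [(0, 15, 1), (3, 4, 1), (5, 6, 1), (8, 9, 1), (11, 13, 1), (12, 1, 1), (14, 16, 1), (18, 19, 1), (21, 22, 1), (23, 24, 1)], [(12, 15, 1)], []], [[(0, 0, 1), (1, 1, 1), (2, 2, 1), (3, 3, 1), (4, 4, 1), (5, 5, 1), (6, 6, 1), (7, 7, 1), (8, 8, 1), (9,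 9, 1), (10, 10, 1), (11, 11, 1), (12, 12, 1), (13, 13, 1), (14, 14, 1), (15, 15, 1), (16, 16, 1), (17, 17, 1), (18, 18, 1), (19, 19, 1), (20, 20, 1), (21, 21, 1), (22, 22, 1), (23, 23, 1), (24, 24, 1), (25, 25, 1)], [(1, 14, 1), (2, 3, 1), (6, 7, 1), (9, 10, 1), (11, 12, 1), (13, 0, 1), (15, 16, 1), (17, 18, 1), (20, 21, 1), (24, 25, 1)], [(13, 14, 1)], []]]

def isoF4TTc3 : List (List (List (ℕ × ℕ × ℤ))) :=
  [[[(0, 0, 1), (1, 1, 1), (2, 2, 1), (3, 3, 1), (4, 4, 1), (5, 5, 1), (6, 6, 1), (7, 7, 1), (8, 8, 1), (9, 9, 1), (10, 10, 1), (11, 11, 1), (12, 12, 1), (13, 13, 1), (14, 14, 1), (15, 15, 1), (16, 16, 1), (17, 17, 1), (18, 18, 1), (19, 19, 1), (20, 20, 1), (21, 21, 1), (22, 22, 1), (23, 23, 1), (24, 24, 1), (25, 25, 1)], [(1, 13, 1), (3, 2, 1), (7, 6, 1), (10, 9, 1), (12, 11, 1), (14, 0, 1), (16, 15, 1), (18, 17,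 1), (21, 20, 1), (25, 24, 1)], [(14, 13, 1)], []], [[(0, 0, 1), (1, 1, 1), (2, 2, 1), (3, 3, 1), (4, 4, 1), (5, 5, 1), (6, 6, 1), (7, 7, 1), (8, 8, 1), (9, 9, 1), (10, 10, 1), (11, 11, 1), (12, 12, 1), (13, 13, 1), (14, 14, 1), (15, 15, 1), (16, 16, 1), (17, 17, 1), (18, 18, 1), (19, 19, 1), (20, 20, 1), (21, 21, 1), (22, 22, 1), (23, 23, 1), (24, 24, 1), (25, 25, 1)], [(0, 12, 1), (4, 3, 1), (6, 5, 1), (9, 8, 1), (13, 11, 1), (15, 1, 1), (16, 14, 1), (19, 18, 1), (22, 21, 1), (24, 23, 1)], [(15, 12, 1)], []], [[(0, 0, 1), (1, 1, 1), (2, 2, 1), (3, 3, 1), (4, 4, 1), (5, 5, 1), (6, 6, 1), (7, 7, 1), (8, 8, 1), (9, 9, 1), (10, 10, 1), (11, 11, 1), (12, 12, 1), (13, 13, 1), (14, 14, 1), (15, 15, 1), (16, 16, 1), (17, 17, 1), (18, 18, 1), (19, 19, 1), (20, 20, 1), (21, 21, 1), (22, 22, 1), (23, 23, 1), (24, 24, 1), (25, 25,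 1)], [(0, 11, 1), (1, 11, 1), (4, 2, 1), (7, 5, 1), (10, 8, 1), (14, 12, 1), (15, 13, 1), (16, 0, 1), (16, 1, 1), (19, 17, 1), (22, 20, 1), (25, 23, 1)], [(16, 11, 1)], []], [[(0, 0, 1), (1, 1, 1), (2, 2, 1), (3, 3, 1), (4, 4, 1), (5, 5, 1), (6, 6, 1), (7, 7, 1), (8, 8, 1), (9, 9, 1), (10, 10, 1), (11, 11, 1), (12, 12, 1), (13, 13, 1), (14, 14, 1), (15, 15, 1), (16, 16, 1), (17, 17, 1), (18, 18, 1), (19, 19, 1), (20, 20, 1), (21, 21, 1), (22, 22, 1), (23, 23, 1), (24, 24, 1), (25, 25, 1)], [(5, 4, 1), (11, 9, 1), (12, 10, 1), (17, 15, 1), (18, 16, 1), (23, 22, 1)], [], []], [[(0, 0, 1), (1, 1, 1), (2, 2, 1), (3, 3, 1), (4, 4, 1), (5, 5, 1), (6, 6, 1), (7, 7, 1), (8, 8, 1), (9, 9, 1), (10, 10, 1), (11, 11, 1), (12, 12, 1), (13, 13, 1), (14, 14, 1), (15, 15, 1), (16, 16, 1), (17, 17, 1), (18, 18, 1), (19, 19, 1), (20, 20,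 1), (21, 21, 1), (22, 22, 1), (23, 23, 1), (24, 24, 1), (25, 25, 1)], [(6, 3, 1), (13, 8, 1), (15, 10, 1), (17, 12, 1), (19, 14, 1), (24, 21, 1)], [], []], [[(0, 0, 1), (1, 1, 1), (2, 2, 1), (3, 3, 1), (4, 4, 1), (5, 5, 1), (6, 6, 1), (7, 7, 1), (8, 8, 1), (9, 9, 1), (10, 10, 1), (11, 11, 1), (12, 12, 1), (13, 13, 1), (14, 14, 1), (15, 15, 1), (16, 16, 1), (17, 17, 1), (18, 18, 1), (19, 19, 1), (20, 20, 1), (21, 21, 1), (22, 22, 1), (23, 23, 1), (24, 24, 1), (25, 25, 1)], [(7, 2, 1), (14, 8, 1), (16, 9, 1), (18, 11, 1), (19, 13, 1), (25, 20, 1)], [], []], [[(0, 0, 1), (1, 1, 1), (2, 2, 1), (3, 3, 1), (4, 4, 1), (5, 5, 1), (6, 6, 1), (7, 7, 1), (8, 8, 1), (9, 9, 1), (10, 10, 1), (11, 11, 1), (12, 12, 1), (13, 13, 1), (14, 14, 1), (15, 15, 1), (16, 16, 1), (17, 17, 1), (18, 18, 1), (19, 19, 1), (20, 20, 1), (21, 21, 1),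 (22, 22, 1), (23, 23, 1), (24, 24, 1), (25, 25, 1)], [(0, 10, 1), (5, 3, 1), (6, 4, 1), (11, 8, 1), (13, 9, 1), (17, 1, 1), (18, 14, 1), (19, 16, 1), (23, 21, 1), (24, 22, 1)], [(17, 10, 1)], []], [[(0, 0, 1), (1, 1, 1), (2, 2, 1), (3, 3, 1), (4, 4, 1), (5, 5, 1), (6, 6, 1), (7, 7, 1), (8, 8, 1), (9, 9, 1), (10, 10, 1), (11, 11, 1), (12, 12, 1), (13, 13, 1), (14, 14, 1), (15, 15, 1), (16, 16, 1), (17, 17, 1), (18, 18, 1), (19, 19, 1), (20, 20, 1), (21, 21, 1), (22, 22, 1), (23, 23, 1), (24, 24, 1), (25, 25, 1)], [(0, 9, 1), (1, 9, 1), (5, 2, 1), (7, 4, 1), (12, 8, 1), (14, 10, 1), (17, 13, 1), (18, 0, 1), (18, 1, 1), (19, 15, 1), (23, 20, 1), (25, 22, 1)], [(18, 9, 1)], []]]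

def isoF4TTc4 : List (List (List (ℕ × ℕ × ℤ))) :=
  [[[(0, 0, 1), (1, 1, 1), (2, 2, 1), (3, 3, 1), (4, 4, 1), (5, 5, 1), (6, 6, 1), (7, 7, 1), (8, 8, 1), (9, 9, 1), (10, 10, 1), (11, 11, 1), (12, 12, 1), (13, 13, 1), (14, 14, 1), (15, 15, 1), (16, 16, 1), (17, 17, 1), (18, 18, 1), (19, 19, 1), (20, 20, 1), (21, 21, 1), (22, 22, 1), (23, 23, 1), (24, 24, 1), (25, 25, 1)], [(1, 8, 1), (6, 2, 1), (7, 3, 1), (15, 9, 1), (16, 10, 1), (17, 11, 1), (18, 12, 1), (19, 0, 1), (24, 20, 1), (25, 21, 1)], [(19, 8, 1)], []], [[(0, 0, 1), (1, 1, 1), (2, 2, 1), (3, 3, 1), (4, 4, 1), (5, 5, 1), (6, 6, 1), (7, 7, 1), (8, 8, 1), (9, 9, 1), (10, 10, 1), (11, 11, 1), (12, 12, 1), (13, 13, 1), (14, 14, 1), (15, 15, 1), (16, 16, 1), (17, 17, 1), (18, 18, 1), (19, 19, 1), (20, 20, 1), (21, 21, 1), (22, 22, 1), (23, 23, 1), (24, 24, 1), (25,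 25, 1)], [(8, 5, 1), (9, 6, 1), (10, 7, 1), (20, 17, 1), (21, 18, 1), (22, 19, 1)], [], []], [[(0, 0, 1), (1, 1, 1), (2, 2, 1), (3, 3, 1), (4, 4, 1), (5, 5, 1), (6, 6, 1), (7, 7, 1), (8, 8, 1), (9, 9, 1), (10, 10, 1), (11, 11, 1), (12, 12, 1), (13, 13, 1), (14, 14, 1), (15, 15, 1), (16, 16, 1), (17, 17, 1), (18, 18, 1), (19, 19, 1), (20, 20, 1), (21, 21, 1), (22, 22, 1), (23, 23, 1), (24, 24, 1), (25, 25, 1)], [(8, 4, 1), (11, 6, 1), (12, 7, 1), (20, 15, 1), (21, 16, 1), (23, 19, 1)], [], []], [[(0, 0, 1), (1, 1, 1), (2, 2, 1), (3, 3, 1), (4, 4, 1), (5, 5, 1), (6, 6, 1), (7, 7, 1), (8, 8, 1), (9, 9, 1), (10, 10, 1), (11, 11, 1), (12, 12, 1), (13, 13, 1), (14, 14, 1), (15, 15, 1), (16, 16, 1), (17, 17, 1), (18, 18, 1), (19, 19, 1), (20, 20, 1), (21, 21, 1), (22, 22, 1), (23, 23, 1), (24, 24, 1), (25, 25, 1)], [(9, 3, 1),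 (13, 5, 1), (15, 7, 1), (20, 12, 1), (22, 14, 1), (24, 18, 1)], [], []], [[(0, 0, 1), (1, 1, 1), (2, 2, 1), (3, 3, 1), (4, 4, 1), (5, 5, 1), (6, 6, 1), (7, 7, 1), (8, 8, 1), (9, 9, 1), (10, 10, 1), (11, 11, 1), (12, 12, 1), (13, 13, 1), (14, 14, 1), (15, 15, 1), (16, 16, 1), (17, 17, 1), (18, 18, 1), (19, 19, 1), (20, 20, 1), (21, 21, 1), (22, 22, 1), (23, 23, 1), (24, 24, 1), (25, 25, 1)], [(10, 2, 1), (14, 5, 1), (16, 6, 1), (21, 11, 1), (22, 13, 1), (25, 17, 1)], [], []], [[(0, 0, 1), (1, 1, 1), (2, 2, 1), (3, 3, 1), (4, 4, 1), (5, 5, 1), (6, 6, 1), (7, 7, 1), (8, 8, 1), (9, 9, 1), (10, 10, 1), (11, 11, 1), (12, 12, 1), (13, 13, 1), (14, 14, 1), (15, 15, 1), (16, 16, 1), (17, 17, 1), (18, 18, 1), (19, 19, 1), (20, 20, 1), (21, 21, 1), (22, 22, 1), (23, 23, 1), (24, 24, 1), (25, 25, 1)], [(11, 3, 1), (13, 4, 1), (17,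 7, 1), (20, 10, 1), (23, 14, 1), (24, 16, 1)], [], []], [[(0, 0, 1), (1, 1, 1), (2, 2, 1), (3, 3, 1), (4, 4, 1), (5, 5, 1), (6, 6, 1), (7, 7, 1), (8, 8, 1), (9, 9, 1), (10, 10, 1), (11, 11, 1), (12, 12, 1), (13, 13, 1), (14, 14, 1), (15, 15, 1), (16, 16, 1), (17, 17, 1), (18, 18, 1), (19, 19, 1), (20, 20, 1), (21, 21, 1), (22, 22, 1), (23, 23, 1), (24, 24, 1), (25, 25, 1)], [(12, 2, 1), (14, 4, 1), (18, 6, 1), (21, 9, 1), (23, 13, 1), (25, 15, 1)], [], []], [[(0, 0, 1), (1, 1, 1), (2, 2, 1), (3, 3, 1), (4, 4, 1), (5, 5, 1), (6, 6, 1), (7, 7, 1), (8, 8, 1), (9, 9, 1), (10, 10, 1), (11, 11, 1), (12, 12, 1), (13, 13, 1), (14, 14, 1), (15, 15, 1), (16, 16, 1), (17, 17, 1), (18, 18, 1), (19, 19, 1), (20, 20, 1), (21, 21, 1), (22, 22, 1), (23, 23, 1), (24, 24, 1), (25, 25, 1)], [(15, 2, 1), (16, 3, 1), (19, 5, 1), (22, 8, 1),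 (24, 11, 1), (25, 12, 1)], [], []]]

def isoF4TTc5 : List (List (List (ℕ × ℕ × ℤ))) :=
  [[[(0, 0, 1), (1, 1, 1), (2, 2, 1), (3, 3, 1), (4, 4, 1), (5, 5, 1), (6, 6, 1), (7, 7, 1), (8, 8, 1), (9, 9, 1), (10, 10, 1), (11, 11, 1), (12, 12, 1), (13, 13, 1), (14, 14, 1), (15, 15, 1), (16, 16, 1), (17, 17, 1), (18, 18, 1), (19, 19, 1), (20, 20, 1), (21, 21, 1), (22, 22, 1), (23, 23, 1), (24, 24, 1), (25, 25, 1)], [(17, 2, 1), (18, 3, 1), (19, 4, 1), (23, 8, 1), (24, 9, 1), (25, 10, 1)], [], []], [[(0, 0, 1), (1, 1, 1), (2, 2, 1), (3, 3, 1), (4, 4, 1), (5, 5, 1), (6, 6, 1), (7, 7, 1), (8, 8, 1), (9, 9, 1), (10, 10, 1), (11, 11, 1), (12, 12, 1), (13, 13, 1), (14, 14, 1), (15, 15, 1), (16, 16, 1), (17, 17, 1), (18, 18, 1), (19, 19, 1), (20, 20, 1), (21, 21, 1), (22, 22, 1), (23, 23, 1), (24, 24, 1), (25, 25, 1)], [(0, 7, 1), (8,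 3, 1), (9, 4, 1), (11, 5, 1), (13, 6, 1), (20, 1, 1), (21, 14, 1), (22, 16, 1), (23, 18, 1), (24, 19, 1)], [(20, 7, 1)], []], [[(0, 0, 1), (1, 1, 1), (2, 2, 1), (3, 3, 1), (4, 4, 1), (5, 5, 1), (6, 6, 1), (7, 7, 1), (8, 8, 1), (9, 9, 1), (10, 10, 1), (11, 11, 1), (12, 12, 1), (13, 13, 1), (14, 14, 1), (15, 15, 1), (16, 16, 1), (17, 17, 1), (18, 18, 1), (19, 19, 1), (20, 20, 1), (21, 21, 1), (22, 22, 1), (23, 23, 1), (24, 24, 1), (25, 25, 1)], [(0, 6, 1), (1, 6, 1), (8, 2, 1), (10, 4, 1), (12, 5, 1), (14, 7, 1), (20, 13, 1), (21, 0, 1), (21, 1, 1), (22, 15, 1), (23, 17, 1), (25, 19, 1)], [(21, 6, 1)], []], [[(0, 0, 1), (1, 1, 1), (2, 2, 1), (3, 3, 1), (4, 4, 1), (5, 5, 1), (6, 6, 1), (7, 7, 1), (8, 8, 1), (9, 9, 1), (10, 10, 1), (11, 11, 1), (12, 12, 1), (13, 13, 1), (14, 14, 1), (15, 15, 1), (16, 16, 1), (17, 17, 1),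 (18, 18, 1), (19, 19, 1), (20, 20, 1), (21, 21, 1), (22, 22, 1), (23, 23, 1), (24, 24, 1), (25, 25, 1)], [(1, 5, 1), (9, 2, 1), (10, 3, 1), (15, 6, 1), (16, 7, 1), (20, 11, 1), (21, 12, 1), (22, 0, 1), (24, 17, 1), (25, 18, 1)], [(22, 5, 1)], []], [[(0, 0, 1), (1, 1, 1), (2, 2, 1), (3, 3, 1), (4, 4, 1), (5, 5, 1), (6, 6, 1), (7, 7, 1), (8, 8, 1), (9, 9, 1), (10, 10, 1), (11, 11, 1), (12, 12, 1), (13, 13, 1), (14, 14, 1), (15, 15, 1), (16, 16, 1), (17, 17, 1), (18, 18, 1), (19, 19, 1), (20, 20, 1), (21, 21, 1), (22, 22, 1), (23, 23, 1), (24, 24, 1), (25, 25, 1)], [(20, 2, 1), (21, 3, 1), (22, 4, 1), (23, 5, 1), (24, 6, 1), (25, 7, 1)], [], []], [[(0, 0, 1), (1, 1, 1), (2, 2, 1), (3, 3, 1), (4, 4, 1), (5, 5, 1), (6, 6, 1), (7, 7, 1), (8, 8, 1), (9, 9, 1), (10, 10, 1), (11, 11, 1), (12, 12, 1), (13, 13, 1), (14, 14, 1),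 (15, 15, 1), (16, 16, 1), (17, 17, 1), (18, 18, 1), (19, 19, 1), (20, 20, 1), (21, 21, 1), (22, 22, 1), (23, 23, 1), (24, 24, 1), (25, 25, 1)], [(1, 4, 1), (11, 2, 1), (12, 3, 1), (17, 6, 1), (18, 7, 1), (20, 9, 1), (21, 10, 1), (23, 0, 1), (24, 15, 1), (25, 16, 1)], [(23, 4, 1)], []], [[(0, 0, 1), (1, 1, 1), (2, 2, 1), (3, 3, 1), (4, 4, 1), (5, 5, 1), (6, 6, 1), (7, 7, 1), (8, 8, 1), (9, 9, 1), (10, 10, 1), (11, 11, 1), (12, 12, 1), (13, 13, 1), (14, 14, 1), (15, 15, 1), (16, 16, 1), (17, 17, 1), (18, 18, 1), (19, 19, 1), (20, 20, 1), (21, 21, 1), (22, 22, 1), (23, 23, 1), (24, 24, 1), (25, 25, 1)], [(0, 3, 1), (1, 3, 1), (13, 2, 1), (15, 4, 1), (17, 5, 1), (19, 7, 1), (20, 8, 1), (22, 10, 1), (23, 12, 1), (24, 0, 1), (24, 1, 1), (25, 14, 1)], [(24, 3, 1)], []], [[(0, 0, 1), (1, 1, 1), (2, 2, 1), (3, 3, 1), (4, 4, 1),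 (5, 5, 1), (6, 6, 1), (7, 7, 1), (8, 8, 1), (9, 9, 1), (10, 10, 1), (11, 11, 1), (12, 12, 1), (13, 13, 1), (14, 14, 1), (15, 15, 1), (16, 16, 1), (17, 17, 1), (18, 18, 1), (19, 19, 1), (20, 20, 1), (21, 21, 1), (22, 22, 1), (23, 23, 1), (24, 24, 1), (25, 25, 1)], [(0, 2, 1), (14, 3, 1), (16, 4, 1), (18, 5, 1), (19, 6, 1), (21, 8, 1), (22, 9, 1), (23, 11, 1), (24, 13, 1), (25, 1, 1)], [(25, 2, 1)], []]]

def isoF4TT : List (List (List (ℕ × ℕ × ℤ))) :=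
  isoF4TTc0 ++ isoF4TTc1 ++ isoF4TTc2 ++ isoF4TTc3 ++ isoF4TTc4 ++ isoF4TTc5

def isoF4ELc0 : List (List (List (ℕ × ℕ × ℤ))) :=
  [[[(0, 0, 1), (1, 1, 1), (2, 2, 1), (3, 3, 1), (4, 4, 1), (5, 5, 1), (6, 6, 1), (7, 7, 1), (8, 8, 1), (9, 9, 1), (10, 10, 1), (11, 11, 1), (12, 12, 1), (13, 13, 1), (14, 14, 1), (15, 15, 1), (16, 16, 1), (17, 17, 1), (18, 18, 1), (19, 19, 1), (20, 20, 1), (21, 21, 1), (22, 22, 1), (23, 23, 1), (24, 24, 1), (25, 25, 1), (26, 26, 1), (27, 27, 1), (28, 28, 1), (29, 29, 1), (30, 30, 1), (31, 31, 1), (32, 32, 1), (33, 33, 1), (34, 34, 1), (35, 35, 1), (36, 36, 1), (37, 37, 1), (38, 38, 1), (39, 39, 1), (40, 40, 1), (41, 41, 1), (42, 42, 1), (43, 43, 1), (44, 44, 1), (45, 45, 1), (46, 46, 1), (47, 47, 1), (48, 48, 1), (49, 49, 1), (50, 50, 1), (51, 51, 1)], [(0, 51, 1), (2, 51, 1), (4, 3, 1), (5,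 28, 1), (6, 30, 1), (7, 33, 1), (8, 35, 1), (9, 36, 1), (11, 40, 1), (12, 42, 1), (13, 43, 1), (15, 44, 1), (19, 46, 1), (20, 47, 1), (22, 48, 1), (25, 49, 1), (27, 50, 1)], [(4, 51, 1)], []], [[(0, 0, 1), (1, 1, 1), (2, 2, 1), (3, 3, 1), (4, 4, 1), (5, 5, 1), (6, 6, 1), (7, 7, 1), (8, 8, 1), (9, 9, 1), (10, 10, 1), (11, 11, 1), (12, 12, 1), (13, 13, 1), (14, 14, 1), (15, 15, 1), (16, 16, 1), (17, 17, 1), (18, 18, 1), (19, 19, 1), (20, 20, 1), (21, 21, 1), (22, 22, 1), (23, 23, 1), (24, 24, 1), (25, 25, 1), (26, 26, 1), (27, 27, 1), (28, 28, 1), (29, 29, 1), (30, 30, 1), (31, 31, 1), (32, 32, 1), (33, 33, 1), (34, 34, 1), (35, 35, 1), (36, 36, 1), (37, 37, 1), (38, 38, 1), (39, 39, 1), (40, 40, 1), (41, 41, 1), (42, 42, 1), (43, 43, 1), (44, 44, 1), (45, 45, 1), (46, 46, 1), (47, 47, 1), (48, 48, 1), (49, 49, 1), (50,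 50, 1), (51, 51, 1)], [(0, 50, 1), (2, 50, 1), (3, 50, 1), (4, 27, 1), (5, 2, 1), (5, 3, 1), (6, 29, 1), (7, 32, 1), (8, 34, 1), (10, 36, 1), (11, 39, 1), (12, 41, 1), (14, 43, 1), (16, 44, 1), (19, 45, 1), (21, 47, 1), (23, 48, 1), (26, 49, 1), (28, 51, 1)], [(5, 50, 1)], []], [[(0, 0, 1), (1, 1, 1), (2, 2, 1), (3, 3, 1), (4, 4, 1), (5, 5, 1), (6, 6, 1), (7, 7, 1), (8, 8, 1), (9, 9, 1), (10, 10, 1), (11, 11, 1), (12, 12, 1), (13, 13, 1), (14, 14, 1), (15, 15, 1), (16, 16, 1), (17, 17, 1), (18, 18, 1), (19, 19, 1), (20, 20, 1), (21, 21, 1), (22, 22, 1), (23, 23, 1), (24, 24, 1), (25, 25, 1), (26, 26, 1), (27, 27, 1), (28, 28, 1), (29, 29, 1), (30, 30, 1), (31, 31, 1), (32, 32, 1), (33, 33, 1), (34, 34, 1), (35, 35, 1), (36, 36, 1), (37, 37, 1), (38, 38, 1), (39, 39, 1), (40, 40, 1), (41, 41, 1), (42, 42, 1), (43, 43,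 1), (44, 44, 1), (45, 45, 1), (46, 46, 1), (47, 47, 1), (48, 48, 1), (49, 49, 1), (50, 50, 1), (51, 51, 1)], [(0, 49, 1), (3, 49, 1), (4, 25, 1), (5, 26, 1), (6, 2, 1), (7, 31, 1), (9, 34, 1), (10, 35, 1), (11, 38, 1), (13, 41, 1), (14, 42, 1), (17, 44, 1), (20, 45, 1), (21, 46, 1), (24, 48, 1), (29, 50, 1), (30, 51, 1)], [(6, 49, 1)], []], [[(0, 0, 1), (1, 1, 1), (2, 2, 1), (3, 3, 1), (4, 4, 1), (5, 5, 1), (6, 6, 1), (7, 7, 1), (8, 8, 1), (9, 9, 1), (10, 10, 1), (11, 11, 1), (12, 12, 1), (13, 13, 1), (14, 14, 1), (15, 15, 1), (16, 16, 1), (17, 17, 1), (18, 18, 1), (19, 19, 1), (20, 20, 1), (21, 21, 1), (22, 22, 1), (23, 23, 1), (24, 24, 1), (25, 25, 1), (26, 26, 1), (27, 27, 1), (28, 28, 1), (29, 29, 1), (30, 30, 1), (31, 31, 1), (32, 32, 1), (33, 33, 1), (34, 34, 1), (35, 35, 1), (36, 36, 1), (37, 37, 1), (38, 38, 1),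 (39, 39, 1), (40, 40, 1), (41, 41, 1), (42, 42, 1), (43, 43, 1), (44, 44, 1), (45, 45, 1), (46, 46, 1), (47, 47, 1), (48, 48, 1), (49, 49, 1), (50, 50, 1), (51, 51, 1)], [(1, 48, 1), (7, 0, 1), (11, 37, 1), (12, 38, 1), (13, 39, 1), (14, 40, 1), (15, 41, 1), (16, 42, 1), (17, 43, 1), (18, 44, 1), (22, 45, 1), (23, 46, 1), (24, 47, 1), (31, 49, 1), (32, 50, 1), (33, 51, 1)], [(4, 45, 1), (5, 46, 1), (6, 47, 1), (7, 48, 1), (8, 49, 1), (9, 50, 1), (10, 51, 1)], []]]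

def isoF4ELc1 : List (List (List (ℕ × ℕ × ℤ))) :=
  [[[(0, 0, 1), (1, 1, 1), (2, 2, 1), (3, 3, 1), (4, 4, 1), (5, 5, 1), (6, 6, 1), (7, 7, 1), (8, 8, 1), (9, 9, 1), (10, 10, 1), (11, 11, 1), (12, 12, 1), (13, 13, 1), (14, 14, 1), (15, 15, 1), (16, 16, 1), (17, 17, 1), (18, 18, 1), (19, 19, 1), (20, 20, 1), (21, 21, 1), (22, 22, 1), (23, 23, 1), (24, 24, 1), (25, 25, 1), (26, 26, 1), (27, 27, 1), (28, 28, 1), (29, 29, 1), (30, 30, 1), (31, 31, 1), (32, 32, 1), (33, 33, 1), (34, 34, 1), (35, 35, 1), (36, 36, 1), (37, 37, 1), (38, 38, 1), (39, 39, 1), (40, 40, 1), (41, 41, 1), (42, 42, 1), (43, 43, 1), (44, 44, 1), (45, 45, 1), (46, 46, 1), (47, 47, 1), (48, 48, 1), (49, 49, 1), (50, 50, 1), (51, 51, 1)], [(0, 47, 1), (1, 47, 1), (3, 47, 1), (4, 20, 1), (5, 21, 1), (7, 24, 1), (8, 2, 1), (9, 29, 1), (10, 30, 1), (12, 37,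 1), (15, 39, 1), (16, 40, 1), (18, 43, 1), (25, 45, 1), (26, 46, 1), (31, 48, 1), (34, 50, 1), (35, 51, 1)], [(8, 47, 1)], []], [[(0, 0, 1), (1, 1, 1), (2, 2, 1), (3, 3, 1), (4, 4, 1), (5, 5, 1), (6, 6, 1), (7, 7, 1), (8, 8, 1), (9, 9, 1), (10, 10, 1), (11, 11, 1), (12, 12, 1), (13, 13, 1), (14, 14, 1), (15, 15, 1), (16, 16, 1), (17, 17, 1), (18, 18, 1), (19, 19, 1), (20, 20, 1), (21, 21, 1), (22, 22, 1), (23, 23, 1), (24, 24, 1), (25, 25, 1), (26, 26, 1), (27, 27, 1), (28, 28, 1), (29, 29, 1), (30, 30, 1), (31, 31, 1), (32, 32, 1), (33, 33, 1), (34, 34, 1), (35, 35, 1), (36, 36, 1), (37, 37, 1), (38, 38, 1), (39, 39, 1), (40, 40, 1), (41, 41, 1), (42, 42, 1), (43, 43, 1), (44, 44, 1), (45, 45, 1), (46, 46, 1), (47, 47, 1), (48, 48, 1), (49, 49, 1), (50, 50, 1), (51, 51, 1)], [(0, 46, 1), (1, 46, 1), (2, 46, 1), (3, 46,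 1), (4, 19, 1), (6, 21, 1), (7, 23, 1), (8, 26, 1), (9, 2, 1), (9, 3, 1), (10, 28, 1), (13, 37, 1), (15, 38, 1), (17, 40, 1), (18, 42, 1), (27, 45, 1), (29, 47, 1), (32, 48, 1), (34, 49, 1), (36, 51, 1)], [(9, 46, 1)], []], [[(0, 0, 1), (1, 1, 1), (2, 2, 1), (3, 3, 1), (4, 4, 1), (5, 5, 1), (6, 6, 1), (7, 7, 1), (8, 8, 1), (9, 9, 1), (10, 10, 1), (11, 11, 1), (12, 12, 1), (13, 13, 1), (14, 14, 1), (15, 15, 1), (16, 16, 1), (17, 17, 1), (18, 18, 1), (19, 19, 1), (20, 20, 1), (21, 21, 1), (22, 22, 1), (23, 23, 1), (24, 24, 1), (25, 25, 1), (26, 26, 1), (27, 27, 1), (28, 28, 1), (29, 29, 1), (30, 30, 1), (31, 31, 1), (32, 32, 1), (33, 33, 1), (34, 34, 1), (35, 35, 1), (36, 36, 1), (37, 37, 1), (38, 38, 1), (39, 39, 1), (40, 40, 1), (41, 41, 1), (42, 42, 1), (43, 43, 1), (44, 44, 1), (45, 45, 1), (46, 46, 1), (47, 47, 1),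 (48, 48, 1), (49, 49, 1), (50, 50, 1), (51, 51, 1)], [(0, 45, 1), (1, 45, 1), (2, 45, 1), (5, 19, 1), (6, 20, 1), (7, 22, 1), (8, 25, 1), (9, 27, 1), (10, 3, 1), (14, 37, 1), (16, 38, 1), (17, 39, 1), (18, 41, 1), (28, 46, 1), (30, 47, 1), (33, 48, 1), (35, 49, 1), (36, 50, 1)], [(10, 45, 1)], []], [[(0, 0, 1), (1, 1, 1), (2, 2, 1), (3, 3, 1), (4, 4, 1), (5, 5, 1), (6, 6, 1), (7, 7, 1), (8, 8, 1), (9, 9, 1), (10, 10, 1), (11, 11, 1), (12, 12, 1), (13, 13, 1), (14, 14, 1), (15, 15, 1), (16, 16, 1), (17, 17, 1), (18, 18, 1), (19, 19, 1), (20, 20, 1), (21, 21, 1), (22, 22, 1), (23, 23, 1), (24, 24, 1), (25, 25, 1), (26, 26, 1), (27, 27, 1), (28, 28, 1), (29, 29, 1), (30, 30, 1), (31, 31, 1), (32, 32, 1), (33, 33, 1), (34, 34, 1), (35, 35, 1), (36, 36, 1), (37, 37, 1), (38, 38, 1), (39, 39, 1), (40, 40, 1), (41, 41, 1), (42,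 42, 1), (43, 43, 1), (44, 44, 1), (45, 45, 1), (46, 46, 1), (47, 47, 1), (48, 48, 1), (49, 49, 1), (50, 50, 1), (51, 51, 1)], [(0, 44, 1), (1, 44, 1), (7, 18, 1), (11, 0, 1), (11, 1, 1), (12, 31, 1), (13, 32, 1), (14, 33, 1), (15, 34, 1), (16, 35, 1), (17, 36, 1), (22, 41, 1), (23, 42, 1), (24, 43, 1), (37, 48, 1), (38, 49, 1), (39, 50, 1), (40, 51, 1)], [(4, 34, 1), (5, 35, 1), (6, 36, 1), (11, 44, 1), (19, 49, 1), (20, 50, 1), (21, 51, 1)], []]]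

def isoF4ELc2 : List (List (List (ℕ × ℕ × ℤ))) :=
  [[[(0, 0, 1), (1, 1, 1), (2, 2, 1), (3, 3, 1), (4, 4, 1), (5, 5, 1), (6, 6, 1), (7, 7, 1), (8, 8, 1), (9, 9, 1), (10, 10, 1), (11, 11, 1), (12, 12, 1), (13, 13, 1), (14, 14, 1), (15, 15, 1), (16, 16, 1), (17, 17, 1), (18, 18, 1), (19, 19, 1), (20, 20, 1), (21, 21, 1), (22, 22, 1), (23, 23, 1), (24, 24, 1), (25, 25, 1), (26, 26, 1), (27, 27, 1), (28, 28, 1), (29, 29, 1), (30, 30, 1), (31, 31, 1), (32, 32, 1), (33, 33, 1), (34, 34, 1), (35, 35, 1), (36, 36, 1), (37, 37, 1), (38, 38, 1), (39, 39, 1), (40, 40, 1), (41, 41, 1), (42, 42, 1), (43, 43, 1), (44, 44, 1), (45, 45, 1), (46, 46, 1), (47, 47, 1), (48, 48, 1), (49, 49, 1), (50, 50, 1), (51, 51, 1)], [(0, 43, 1), (7, 17, 1), (11, 24, 1), (12, 1, 1), (12, 2, 1), (13, 29, 1), (14, 30, 1), (15, 32, 1), (16, 33, 1), (18,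 36, 1), (22, 39, 1), (23, 40, 1), (31, 44, 1), (37, 47, 1), (38, 48, 1), (41, 50, 1), (42, 51, 1)], [(4, 29, 1), (5, 30, 1), (8, 36, 1), (12, 43, 1), (19, 47, 1), (25, 50, 1), (26, 51, 1)], []], [[(0, 0, 1), (1, 1, 1), (2, 2, 1), (3, 3, 1), (4, 4, 1), (5, 5, 1), (6, 6, 1), (7, 7, 1), (8, 8, 1), (9, 9, 1), (10, 10, 1), (11, 11, 1), (12, 12, 1), (13, 13, 1), (14, 14, 1), (15, 15, 1), (16, 16, 1), (17, 17, 1), (18, 18, 1), (19, 19, 1), (20, 20, 1), (21, 21, 1), (22, 22, 1), (23, 23, 1), (24, 24, 1), (25, 25, 1), (26, 26, 1), (27, 27, 1), (28, 28, 1), (29, 29, 1), (30, 30, 1), (31, 31, 1), (32, 32, 1), (33, 33, 1), (34, 34, 1), (35, 35, 1), (36, 36, 1), (37, 37, 1), (38, 38, 1), (39, 39, 1), (40, 40, 1), (41, 41, 1), (42, 42, 1), (43, 43, 1), (44, 44, 1), (45, 45, 1), (46, 46, 1), (47, 47, 1), (48, 48, 1), (49, 49, 1), (50,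 50, 1), (51, 51, 1)], [(0, 42, 1), (7, 16, 1), (11, 23, 1), (12, 26, 1), (13, 1, 1), (13, 2, 1), (13, 3, 1), (14, 28, 1), (15, 31, 1), (17, 33, 1), (18, 35, 1), (22, 38, 1), (24, 40, 1), (32, 44, 1), (37, 46, 1), (39, 48, 1), (41, 49, 1), (43, 51, 1)], [(4, 26, 1), (6, 28, 1), (9, 35, 1), (13, 42, 1), (20, 46, 1), (27, 49, 1), (29, 51, 1)], []], [[(0, 0, 1), (1, 1, 1), (2, 2, 1), (3, 3, 1), (4, 4, 1), (5, 5, 1), (6, 6, 1), (7, 7, 1), (8, 8, 1), (9, 9, 1), (10, 10, 1), (11, 11, 1), (12, 12, 1), (13, 13, 1), (14, 14, 1), (15, 15, 1), (16, 16, 1), (17, 17, 1), (18, 18, 1), (19, 19, 1), (20, 20, 1), (21, 21, 1), (22, 22, 1), (23, 23, 1), (24, 24, 1), (25, 25, 1), (26, 26, 1), (27, 27, 1), (28, 28, 1), (29, 29, 1), (30, 30, 1), (31, 31, 1), (32, 32, 1), (33, 33, 1), (34, 34, 1), (35, 35, 1), (36, 36, 1), (37, 37, 1), (38,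 38, 1), (39, 39, 1), (40, 40, 1), (41, 41, 1), (42, 42, 1), (43, 43, 1), (44, 44, 1), (45, 45, 1), (46, 46, 1), (47, 47, 1), (48, 48, 1), (49, 49, 1), (50, 50, 1), (51, 51, 1)], [(0, 41, 1), (7, 15, 1), (11, 22, 1), (12, 25, 1), (13, 27, 1), (14, 1, 1), (14, 3, 1), (16, 31, 1), (17, 32, 1), (18, 34, 1), (23, 38, 1), (24, 39, 1), (33, 44, 1), (37, 45, 1), (40, 48, 1), (42, 49, 1), (43, 50, 1)], [(5, 25, 1), (6, 27, 1), (10, 34, 1), (14, 41, 1), (21, 45, 1), (28, 49, 1), (30, 50, 1)], []], [[(0, 0, 1), (1, 1, 1), (2, 2, 1), (3, 3, 1), (4, 4, 1), (5, 5, 1), (6, 6, 1), (7, 7, 1), (8, 8, 1), (9, 9, 1), (10, 10, 1), (11, 11, 1), (12, 12, 1), (13, 13, 1), (14, 14, 1), (15, 15, 1), (16, 16, 1), (17, 17, 1), (18, 18, 1), (19, 19, 1), (20, 20, 1), (21, 21, 1), (22, 22, 1), (23, 23, 1), (24, 24, 1), (25, 25, 1), (26, 26, 1), (27,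 27, 1), (28, 28, 1), (29, 29, 1), (30, 30, 1), (31, 31, 1), (32, 32, 1), (33, 33, 1), (34, 34, 1), (35, 35, 1), (36, 36, 1), (37, 37, 1), (38, 38, 1), (39, 39, 1), (40, 40, 1), (41, 41, 1), (42, 42, 1), (43, 43, 1), (44, 44, 1), (45, 45, 1), (46, 46, 1), (47, 47, 1), (48, 48, 1), (49, 49, 1), (50, 50, 1), (51, 51, 1)], [(0, 40, 1), (1, 40, 1), (7, 14, 1), (11, 21, 1), (12, 23, 1), (13, 24, 1), (15, 0, 1), (15, 1, 1), (15, 3, 1), (16, 28, 1), (17, 30, 1), (18, 33, 1), (22, 37, 1), (31, 42, 1), (32, 43, 1), (38, 46, 1), (39, 47, 1), (41, 48, 1), (44, 51, 1)], [(4, 21, 1), (8, 28, 1), (9, 30, 1), (15, 40, 1), (25, 46, 1), (27, 47, 1), (34, 51, 1)], []]]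

def isoF4ELc3 : List (List (List (ℕ × ℕ × ℤ))) :=
  [[[(0, 0, 1), (1, 1, 1), (2, 2, 1), (3, 3, 1), (4, 4, 1), (5, 5, 1), (6, 6, 1), (7, 7, 1), (8, 8, 1), (9, 9, 1), (10, 10, 1), (11, 11, 1), (12, 12, 1), (13, 13, 1), (14, 14, 1), (15, 15, 1), (16, 16, 1), (17, 17, 1), (18, 18, 1), (19, 19, 1), (20, 20, 1), (21, 21, 1), (22, 22, 1), (23, 23, 1), (24, 24, 1), (25, 25, 1), (26, 26, 1), (27, 27, 1), (28, 28, 1), (29, 29, 1), (30, 30, 1), (31, 31, 1), (32, 32, 1), (33, 33, 1), (34, 34, 1), (35, 35, 1), (36, 36, 1), (37, 37, 1), (38, 38, 1), (39, 39, 1), (40, 40, 1), (41, 41, 1), (42, 42, 1), (43, 43, 1), (44, 44, 1), (45, 45, 1), (46, 46, 1), (47, 47, 1), (48, 48, 1), (49, 49, 1), (50, 50, 1), (51, 51, 1)], [(0, 39, 1), (1, 39, 1), (7, 13, 1), (11, 20, 1), (12, 22, 1), (14, 24, 1), (15, 27, 1), (16, 0, 1), (16, 1, 1), (16,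 2, 1), (16, 3, 1), (17, 29, 1), (18, 32, 1), (23, 37, 1), (31, 41, 1), (33, 43, 1), (38, 45, 1), (40, 47, 1), (42, 48, 1), (44, 50, 1)], [(5, 20, 1), (8, 27, 1), (10, 29, 1), (16, 39, 1), (26, 45, 1), (28, 47, 1), (35, 50, 1)], []], [[(0, 0, 1), (1, 1, 1), (2, 2, 1), (3, 3, 1), (4, 4, 1), (5, 5, 1), (6, 6, 1), (7, 7, 1), (8, 8, 1), (9, 9, 1), (10, 10, 1), (11, 11, 1), (12, 12, 1), (13, 13, 1), (14, 14, 1), (15, 15, 1), (16, 16, 1), (17, 17, 1), (18, 18, 1), (19, 19, 1), (20, 20, 1), (21, 21, 1), (22, 22, 1), (23, 23, 1), (24, 24, 1), (25, 25, 1), (26, 26, 1), (27, 27, 1), (28, 28, 1), (29, 29, 1), (30, 30, 1), (31, 31, 1), (32, 32, 1), (33, 33, 1), (34, 34, 1), (35, 35, 1), (36, 36, 1), (37, 37, 1), (38, 38, 1), (39, 39, 1), (40, 40, 1), (41, 41, 1), (42, 42, 1), (43, 43, 1), (44, 44, 1), (45, 45, 1), (46, 46, 1), (47,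 47, 1), (48, 48, 1), (49, 49, 1), (50, 50, 1), (51, 51, 1)], [(0, 38, 1), (1, 38, 1), (7, 12, 1), (11, 19, 1), (13, 22, 1), (14, 23, 1), (15, 25, 1), (16, 26, 1), (17, 0, 1), (17, 1, 1), (17, 2, 1), (18, 31, 1), (24, 37, 1), (32, 41, 1), (33, 42, 1), (39, 45, 1), (40, 46, 1), (43, 48, 1), (44, 49, 1)], [(6, 19, 1), (9, 25, 1), (10, 26, 1), (17, 38, 1), (29, 45, 1), (30, 46, 1), (36, 49, 1)], []], [[(0, 0, 1), (1, 1, 1), (2, 2, 1), (3, 3, 1), (4, 4, 1), (5, 5, 1), (6, 6, 1), (7, 7, 1), (8, 8, 1), (9, 9, 1), (10, 10, 1), (11, 11, 1), (12, 12, 1), (13, 13, 1), (14, 14, 1), (15, 15, 1), (16, 16, 1), (17, 17, 1), (18, 18, 1), (19, 19, 1), (20, 20, 1), (21, 21, 1), (22, 22, 1), (23, 23, 1), (24, 24, 1), (25, 25, 1), (26, 26, 1), (27, 27, 1), (28, 28, 1), (29, 29, 1), (30, 30, 1), (31, 31, 1), (32, 32, 1), (33, 33, 1), (34,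 34, 1), (35, 35, 1), (36, 36, 1), (37, 37, 1), (38, 38, 1), (39, 39, 1), (40, 40, 1), (41, 41, 1), (42, 42, 1), (43, 43, 1), (44, 44, 1), (45, 45, 1), (46, 46, 1), (47, 47, 1), (48, 48, 1), (49, 49, 1), (50, 50, 1), (51, 51, 1)], [(0, 37, 1), (7, 11, 1), (12, 19, 1), (13, 20, 1), (14, 21, 1), (15, 22, 1), (16, 23, 1), (17, 24, 1), (18, 1, 1), (31, 38, 1), (32, 39, 1), (33, 40, 1), (41, 45, 1), (42, 46, 1), (43, 47, 1), (44, 48, 1)], [(8, 19, 1), (9, 20, 1), (10, 21, 1), (18, 37, 1), (34, 45, 1), (35, 46, 1), (36, 47, 1)], []], [[(0, 0, 1), (1, 1, 1), (2, 2, 1), (3, 3, 1), (4, 4, 1), (5, 5, 1), (6, 6, 1), (7, 7, 1), (8, 8, 1), (9, 9, 1), (10, 10, 1), (11, 11, 1), (12, 12, 1), (13, 13, 1), (14, 14, 1), (15, 15, 1), (16, 16, 1), (17, 17, 1), (18, 18, 1), (19, 19, 1), (20, 20, 1), (21, 21, 1), (22, 22, 1), (23, 23, 1), (24,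 24, 1), (25, 25, 1), (26, 26, 1), (27, 27, 1), (28, 28, 1), (29, 29, 1), (30, 30, 1), (31, 31, 1), (32, 32, 1), (33, 33, 1), (34, 34, 1), (35, 35, 1), (36, 36, 1), (37, 37, 1), (38, 38, 1), (39, 39, 1), (40, 40, 1), (41, 41, 1), (42, 42, 1), (43, 43, 1), (44, 44, 1), (45, 45, 1), (46, 46, 1), (47, 47, 1), (48, 48, 1), (49, 49, 1), (50, 50, 1), (51, 51, 1)], [(1, 36, 1), (3, 36, 1), (4, 9, 1), (5, 10, 1), (11, 17, 1), (12, 18, 1), (19, 2, 1), (20, 29, 1), (21, 30, 1), (22, 32, 1), (23, 33, 1), (25, 34, 1), (26, 35, 1), (37, 43, 1), (38, 44, 1), (45, 50, 1), (46, 51, 1)], [(19, 36, 1)], []]]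

def isoF4ELc4 : List (List (List (ℕ × ℕ × ℤ))) :=
  [[[(0, 0, 1), (1, 1, 1), (2, 2, 1), (3, 3, 1), (4, 4, 1), (5, 5, 1), (6, 6, 1), (7, 7, 1), (8, 8, 1), (9, 9, 1), (10, 10, 1), (11, 11, 1), (12, 12, 1), (13, 13, 1), (14, 14, 1), (15, 15, 1), (16, 16, 1), (17, 17, 1), (18, 18, 1), (19, 19, 1), (20, 20, 1), (21, 21, 1), (22, 22, 1), (23, 23, 1), (24, 24, 1), (25, 25, 1), (26, 26, 1), (27, 27, 1), (28, 28, 1), (29, 29, 1), (30, 30, 1), (31, 31, 1), (32, 32, 1), (33, 33, 1), (34, 34, 1), (35, 35, 1), (36, 36, 1), (37, 37, 1), (38, 38, 1), (39, 39, 1), (40, 40, 1), (41, 41, 1), (42, 42, 1), (43, 43, 1), (44, 44, 1), (45, 45, 1), (46, 46, 1), (47, 47, 1), (48, 48, 1), (49, 49, 1), (50, 50, 1), (51, 51, 1)], [(1, 35, 1), (2, 35, 1), (3, 35, 1), (4, 8, 1), (6, 10, 1), (11, 16, 1), (13, 18, 1), (19, 26, 1), (20, 2, 1), (20,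 3, 1), (21, 28, 1), (22, 31, 1), (24, 33, 1), (27, 34, 1), (29, 36, 1), (37, 42, 1), (39, 44, 1), (45, 49, 1), (47, 51, 1)], [(20, 35, 1)], []], [[(0, 0, 1), (1, 1, 1), (2, 2, 1), (3, 3, 1), (4, 4, 1), (5, 5, 1), (6, 6, 1), (7, 7, 1), (8, 8, 1), (9, 9, 1), (10, 10, 1), (11, 11, 1), (12, 12, 1), (13, 13, 1), (14, 14, 1), (15, 15, 1), (16, 16, 1), (17, 17, 1), (18, 18, 1), (19, 19, 1), (20, 20, 1), (21, 21, 1), (22, 22, 1), (23, 23, 1), (24, 24, 1), (25, 25, 1), (26, 26, 1), (27, 27, 1), (28, 28, 1), (29, 29, 1), (30, 30, 1), (31, 31, 1), (32, 32, 1), (33, 33, 1), (34, 34, 1), (35, 35, 1), (36, 36, 1), (37, 37, 1), (38, 38, 1), (39, 39, 1), (40, 40, 1), (41, 41, 1), (42, 42, 1), (43, 43, 1), (44, 44, 1), (45, 45, 1), (46, 46, 1), (47, 47, 1), (48, 48, 1), (49, 49, 1), (50, 50, 1), (51, 51, 1)], [(1, 34, 1), (2, 34, 1),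 (5, 8, 1), (6, 9, 1), (11, 15, 1), (14, 18, 1), (19, 25, 1), (20, 27, 1), (21, 3, 1), (23, 31, 1), (24, 32, 1), (28, 35, 1), (30, 36, 1), (37, 41, 1), (40, 44, 1), (46, 49, 1), (47, 50, 1)], [(21, 34, 1)], []], [[(0, 0, 1), (1, 1, 1), (2, 2, 1), (3, 3, 1), (4, 4, 1), (5, 5, 1), (6, 6, 1), (7, 7, 1), (8, 8, 1), (9, 9, 1), (10, 10, 1), (11, 11, 1), (12, 12, 1), (13, 13, 1), (14, 14, 1), (15, 15, 1), (16, 16, 1), (17, 17, 1), (18, 18, 1), (19, 19, 1), (20, 20, 1), (21, 21, 1), (22, 22, 1), (23, 23, 1), (24, 24, 1), (25, 25, 1), (26, 26, 1), (27, 27, 1), (28, 28, 1), (29, 29, 1), (30, 30, 1), (31, 31, 1), (32, 32, 1), (33, 33, 1), (34, 34, 1), (35, 35, 1), (36, 36, 1), (37, 37, 1), (38, 38, 1), (39, 39, 1), (40, 40, 1), (41, 41, 1), (42, 42, 1), (43, 43, 1), (44, 44, 1), (45, 45, 1), (46, 46, 1), (47, 47, 1), (48, 48, 1),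 (49, 49, 1), (50, 50, 1), (51, 51, 1)], [(1, 33, 1), (7, 10, 1), (11, 14, 1), (12, 16, 1), (13, 17, 1), (15, 18, 1), (22, 0, 1), (22, 3, 1), (23, 28, 1), (24, 30, 1), (31, 35, 1), (32, 36, 1), (37, 40, 1), (38, 42, 1), (39, 43, 1), (41, 44, 1), (48, 51, 1)], [(4, 10, 1), (19, 28, 1), (20, 30, 1), (22, 33, 1), (25, 35, 1), (27, 36, 1), (45, 51, 1)], []], [[(0, 0, 1), (1, 1, 1), (2, 2, 1), (3, 3, 1), (4, 4, 1), (5, 5, 1), (6, 6, 1), (7, 7, 1), (8, 8, 1), (9, 9, 1), (10, 10, 1), (11, 11, 1), (12, 12, 1), (13, 13, 1), (14, 14, 1), (15, 15, 1), (16, 16, 1), (17, 17, 1), (18, 18, 1), (19, 19, 1), (20, 20, 1), (21, 21, 1), (22, 22, 1), (23, 23, 1), (24, 24, 1), (25, 25, 1), (26, 26, 1), (27, 27, 1), (28, 28, 1), (29, 29, 1), (30, 30, 1), (31, 31, 1), (32, 32, 1), (33, 33, 1), (34, 34, 1), (35, 35, 1), (36, 36, 1), (37, 37, 1),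 (38, 38, 1), (39, 39, 1), (40, 40, 1), (41, 41, 1), (42, 42, 1), (43, 43, 1), (44, 44, 1), (45, 45, 1), (46, 46, 1), (47, 47, 1), (48, 48, 1), (49, 49, 1), (50, 50, 1), (51, 51, 1)], [(1, 32, 1), (7, 9, 1), (11, 13, 1), (12, 15, 1), (14, 17, 1), (16, 18, 1), (22, 27, 1), (23, 0, 1), (23, 2, 1), (23, 3, 1), (24, 29, 1), (31, 34, 1), (33, 36, 1), (37, 39, 1), (38, 41, 1), (40, 43, 1), (42, 44, 1), (48, 50, 1)], [(5, 9, 1), (19, 27, 1), (21, 29, 1), (23, 32, 1), (26, 34, 1), (28, 36, 1), (46, 50, 1)], []]]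

def isoF4ELc5 : List (List (List (ℕ × ℕ × ℤ))) :=
  [[[(0, 0, 1), (1, 1, 1), (2, 2, 1), (3, 3, 1), (4, 4, 1), (5, 5, 1), (6, 6, 1), (7, 7, 1), (8, 8, 1), (9, 9, 1), (10, 10, 1), (11, 11, 1), (12, 12, 1), (13, 13, 1), (14, 14, 1), (15, 15, 1), (16, 16, 1), (17, 17, 1), (18, 18, 1), (19, 19, 1), (20, 20, 1), (21, 21, 1), (22, 22, 1), (23, 23, 1), (24, 24, 1), (25, 25, 1), (26, 26, 1), (27, 27, 1), (28, 28, 1), (29, 29, 1), (30, 30, 1), (31, 31, 1), (32, 32, 1), (33, 33, 1), (34, 34, 1), (35, 35, 1), (36, 36, 1), (37, 37, 1), (38, 38, 1), (39, 39, 1), (40, 40, 1), (41, 41, 1), (42, 42, 1), (43, 43, 1), (44, 44, 1), (45, 45, 1), (46, 46, 1), (47, 47, 1), (48, 48, 1), (49, 49, 1), (50, 50, 1), (51, 51, 1)], [(1, 31, 1), (7, 8, 1), (11, 12, 1), (13, 15, 1), (14, 16, 1), (17, 18, 1), (22, 25, 1), (23, 26, 1), (24, 0, 1), (24,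 2, 1), (32, 34, 1), (33, 35, 1), (37, 38, 1), (39, 41, 1), (40, 42, 1), (43, 44, 1), (48, 49, 1)], [(6, 8, 1), (20, 25, 1), (21, 26, 1), (24, 31, 1), (29, 34, 1), (30, 35, 1), (47, 49, 1)], []], [[(0, 0, 1), (1, 1, 1), (2, 2, 1), (3, 3, 1), (4, 4, 1), (5, 5, 1), (6, 6, 1), (7, 7, 1), (8, 8, 1), (9, 9, 1), (10, 10, 1), (11, 11, 1), (12, 12, 1), (13, 13, 1), (14, 14, 1), (15, 15, 1), (16, 16, 1), (17, 17, 1), (18, 18, 1), (19, 19, 1), (20, 20, 1), (21, 21, 1), (22, 22, 1), (23, 23, 1), (24, 24, 1), (25, 25, 1), (26, 26, 1), (27, 27, 1), (28, 28, 1), (29, 29, 1), (30, 30, 1), (31, 31, 1), (32, 32, 1), (33, 33, 1), (34, 34, 1), (35, 35, 1), (36, 36, 1), (37, 37, 1), (38, 38, 1), (39, 39, 1), (40, 40, 1), (41, 41, 1), (42, 42, 1), (43, 43, 1), (44, 44, 1), (45, 45, 1), (46, 46, 1), (47, 47, 1), (48, 48, 1), (49, 49, 1), (50,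 50, 1), (51, 51, 1)], [(2, 30, 1), (3, 30, 1), (4, 6, 1), (8, 10, 1), (12, 14, 1), (15, 17, 1), (19, 21, 1), (22, 24, 1), (25, 2, 1), (25, 3, 1), (26, 28, 1), (27, 29, 1), (31, 33, 1), (34, 36, 1), (38, 40, 1), (41, 43, 1), (45, 47, 1), (49, 51, 1)], [(25, 30, 1)], []], [[(0, 0, 1), (1, 1, 1), (2, 2, 1), (3, 3, 1), (4, 4, 1), (5, 5, 1), (6, 6, 1), (7, 7, 1), (8, 8, 1), (9, 9, 1), (10, 10, 1), (11, 11, 1), (12, 12, 1), (13, 13, 1), (14, 14, 1), (15, 15, 1), (16, 16, 1), (17, 17, 1), (18, 18, 1), (19, 19, 1), (20, 20, 1), (21, 21, 1), (22, 22, 1), (23, 23, 1), (24, 24, 1), (25, 25, 1), (26, 26, 1), (27, 27, 1), (28, 28, 1), (29, 29, 1), (30, 30, 1), (31, 31, 1), (32, 32, 1), (33, 33, 1), (34, 34, 1), (35, 35, 1), (36, 36, 1), (37, 37, 1), (38, 38, 1), (39, 39, 1), (40, 40, 1), (41, 41, 1), (42, 42, 1), (43, 43, 1), (44,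 44, 1), (45, 45, 1), (46, 46, 1), (47, 47, 1), (48, 48, 1), (49, 49, 1), (50, 50, 1), (51, 51, 1)], [(2, 29, 1), (5, 6, 1), (8, 9, 1), (12, 13, 1), (16, 17, 1), (19, 20, 1), (23, 24, 1), (25, 27, 1), (26, 3, 1), (28, 30, 1), (31, 32, 1), (35, 36, 1), (38, 39, 1), (42, 43, 1), (46, 47, 1), (49, 50, 1)], [(26, 29, 1)], []], [[(0, 0, 1), (1, 1, 1), (2, 2, 1), (3, 3, 1), (4, 4, 1), (5, 5, 1), (6, 6, 1), (7, 7, 1), (8, 8, 1), (9, 9, 1), (10, 10, 1), (11, 11, 1), (12, 12, 1), (13, 13, 1), (14, 14, 1), (15, 15, 1), (16, 16, 1), (17, 17, 1), (18, 18, 1), (19, 19, 1), (20, 20, 1), (21, 21, 1), (22, 22, 1), (23, 23, 1), (24, 24, 1), (25, 25, 1), (26, 26, 1), (27, 27, 1), (28, 28, 1), (29, 29, 1), (30, 30, 1), (31, 31, 1), (32, 32, 1), (33, 33, 1), (34, 34, 1), (35, 35, 1), (36, 36, 1), (37, 37, 1), (38, 38, 1), (39, 39, 1), (40,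 40, 1), (41, 41, 1), (42, 42, 1), (43, 43, 1), (44, 44, 1), (45, 45, 1), (46, 46, 1), (47, 47, 1), (48, 48, 1), (49, 49, 1), (50, 50, 1), (51, 51, 1)], [(3, 28, 1), (4, 5, 1), (9, 10, 1), (13, 14, 1), (15, 16, 1), (20, 21, 1), (22, 23, 1), (25, 26, 1), (27, 2, 1), (29, 30, 1), (32, 33, 1), (34, 35, 1), (39, 40, 1), (41, 42, 1), (45, 46, 1), (50, 51, 1)], [(27, 28, 1)], []]]

def isoF4ELc6 : List (List (List (ℕ × ℕ × ℤ))) :=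
  [[[(0, 0, 1), (1, 1, 1), (2, 2, 1), (3, 3, 1), (4, 4, 1), (5, 5, 1), (6, 6, 1), (7, 7, 1), (8, 8, 1), (9, 9, 1), (10, 10, 1), (11, 11, 1), (12, 12, 1), (13, 13, 1), (14, 14, 1), (15, 15, 1), (16, 16, 1), (17, 17, 1), (18, 18, 1), (19, 19, 1), (20, 20, 1), (21, 21, 1), (22, 22, 1), (23, 23, 1), (24, 24, 1), (25, 25, 1), (26, 26, 1), (27, 27, 1), (28, 28, 1), (29, 29, 1), (30, 30, 1), (31, 31, 1), (32, 32, 1), (33, 33, 1), (34, 34, 1), (35, 35, 1), (36, 36, 1), (37, 37, 1), (38, 38, 1), (39, 39, 1), (40, 40, 1), (41, 41, 1), (42, 42, 1), (43, 43, 1), (44, 44, 1), (45, 45, 1), (46, 46, 1), (47, 47, 1), (48, 48, 1), (49, 49, 1), (50, 50, 1), (51, 51, 1)], [(3, 27, 1), (5, 4, 1), (10, 9, 1), (14, 13, 1), (16, 15, 1), (21, 20, 1), (23, 22, 1), (26, 25, 1), (28, 2, 1), (30, 29, 1), (33, 32, 1), (35, 34, 1), (40, 39, 1), (42,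 41, 1), (46, 45, 1), (51, 50, 1)], [(28, 27, 1)], []], [[(0, 0, 1), (1, 1, 1), (2, 2, 1), (3, 3, 1), (4, 4, 1), (5, 5, 1), (6, 6, 1), (7, 7, 1), (8, 8, 1), (9, 9, 1), (10, 10, 1), (11, 11, 1), (12, 12, 1), (13, 13, 1), (14, 14, 1), (15, 15, 1), (16, 16, 1), (17, 17, 1), (18, 18, 1), (19, 19, 1), (20, 20, 1), (21, 21, 1), (22, 22, 1), (23, 23, 1), (24, 24, 1), (25, 25, 1), (26, 26, 1), (27, 27, 1), (28, 28, 1), (29, 29, 1), (30, 30, 1), (31, 31, 1), (32, 32, 1), (33, 33, 1), (34, 34, 1), (35, 35, 1), (36, 36, 1), (37, 37, 1), (38, 38, 1), (39, 39, 1), (40, 40, 1), (41, 41, 1), (42, 42, 1), (43, 43, 1), (44, 44, 1), (45, 45, 1), (46, 46, 1), (47, 47, 1), (48, 48, 1), (49, 49, 1), (50, 50, 1), (51, 51, 1)], [(2, 26, 1), (6, 5, 1), (9, 8, 1), (13, 12, 1), (17, 16, 1), (20, 19, 1), (24, 23, 1), (27, 25, 1), (29, 3, 1), (30,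 28, 1), (32, 31, 1), (36, 35, 1), (39, 38, 1), (43, 42, 1), (47, 46, 1), (50, 49, 1)], [(29, 26, 1)], []], [[(0, 0, 1), (1, 1, 1), (2, 2, 1), (3, 3, 1), (4, 4, 1), (5, 5, 1), (6, 6, 1), (7, 7, 1), (8, 8, 1), (9, 9, 1), (10, 10, 1), (11, 11, 1), (12, 12, 1), (13, 13, 1), (14, 14, 1), (15, 15, 1), (16, 16, 1), (17, 17, 1), (18, 18, 1), (19, 19, 1), (20, 20, 1), (21, 21, 1), (22, 22, 1), (23, 23, 1), (24, 24, 1), (25, 25, 1), (26, 26, 1), (27, 27, 1), (28, 28, 1), (29, 29, 1), (30, 30, 1), (31, 31, 1), (32, 32, 1), (33, 33, 1), (34, 34, 1), (35, 35, 1), (36, 36, 1), (37, 37, 1), (38, 38, 1), (39, 39, 1), (40, 40, 1), (41, 41, 1), (42, 42, 1), (43, 43, 1), (44, 44, 1), (45, 45, 1), (46, 46, 1), (47, 47, 1), (48, 48, 1), (49, 49, 1), (50, 50, 1), (51, 51, 1)], [(2, 25, 1), (3, 25, 1), (6, 4, 1), (10, 8, 1), (14, 12, 1), (17,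 15, 1), (21, 19, 1), (24, 22, 1), (28, 26, 1), (29, 27, 1), (30, 2, 1), (30, 3, 1), (33, 31, 1), (36, 34, 1), (40, 38, 1), (43, 41, 1), (47, 45, 1), (51, 49, 1)], [(30, 25, 1)], []], [[(0, 0, 1), (1, 1, 1), (2, 2, 1), (3, 3, 1), (4, 4, 1), (5, 5, 1), (6, 6, 1), (7, 7, 1), (8, 8, 1), (9, 9, 1), (10, 10, 1), (11, 11, 1), (12, 12, 1), (13, 13, 1), (14, 14, 1), (15, 15, 1), (16, 16, 1), (17, 17, 1), (18, 18, 1), (19, 19, 1), (20, 20, 1), (21, 21, 1), (22, 22, 1), (23, 23, 1), (24, 24, 1), (25, 25, 1), (26, 26, 1), (27, 27, 1), (28, 28, 1), (29, 29, 1), (30, 30, 1), (31, 31, 1), (32, 32, 1), (33, 33, 1), (34, 34, 1), (35, 35, 1), (36, 36, 1), (37, 37, 1), (38, 38, 1), (39, 39, 1), (40, 40, 1), (41, 41, 1), (42, 42, 1), (43, 43, 1), (44, 44, 1), (45, 45, 1), (46, 46, 1), (47, 47, 1), (48, 48, 1), (49, 49, 1), (50, 50, 1), (51,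 51, 1)], [(1, 24, 1), (7, 6, 1), (12, 11, 1), (15, 13, 1), (16, 14, 1), (18, 17, 1), (22, 20, 1), (23, 21, 1), (31, 0, 1), (31, 2, 1), (32, 29, 1), (33, 30, 1), (38, 37, 1), (41, 39, 1), (42, 40, 1), (44, 43, 1), (48, 47, 1)], [(8, 6, 1), (25, 20, 1), (26, 21, 1), (31, 24, 1), (34, 29, 1), (35, 30, 1), (49, 47, 1)], []]]

def isoF4ELc7 : List (List (List (ℕ × ℕ × ℤ))) :=
  [[[(0, 0, 1), (1, 1, 1), (2, 2, 1), (3, 3, 1), (4, 4, 1), (5, 5, 1), (6, 6, 1), (7, 7, 1), (8, 8, 1), (9, 9, 1), (10, 10, 1), (11, 11, 1), (12, 12, 1), (13, 13, 1), (14, 14, 1), (15, 15, 1), (16, 16, 1), (17, 17, 1), (18, 18, 1), (19, 19, 1), (20, 20, 1), (21, 21, 1), (22, 22, 1), (23, 23, 1), (24, 24, 1), (25, 25, 1), (26, 26, 1), (27, 27, 1), (28, 28, 1), (29, 29, 1), (30, 30, 1), (31, 31, 1), (32, 32, 1), (33, 33, 1), (34, 34, 1), (35, 35, 1), (36,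 36, 1), (37, 37, 1), (38, 38, 1), (39, 39, 1), (40, 40, 1), (41, 41, 1), (42, 42, 1), (43, 43, 1), (44, 44, 1), (45, 45, 1), (46, 46, 1), (47, 47, 1), (48, 48, 1), (49, 49, 1), (50, 50, 1), (51, 51, 1)], [(1, 23, 1), (7, 5, 1), (13, 11, 1), (15, 12, 1), (17, 14, 1), (18, 16, 1), (22, 19, 1), (24, 21, 1), (31, 26, 1), (32, 0, 1), (32, 2, 1), (32, 3, 1), (33, 28, 1), (39, 37, 1), (41, 38, 1), (43, 40, 1), (44, 42, 1), (48, 46, 1)], [(9, 5, 1), (27, 19, 1), (29, 21, 1), (32, 23, 1), (34, 26, 1), (36, 28, 1), (50, 46, 1)], []], [[(0, 0, 1), (1, 1, 1), (2, 2, 1), (3, 3, 1), (4, 4, 1), (5, 5, 1), (6, 6, 1), (7, 7, 1), (8, 8, 1), (9, 9, 1), (10, 10, 1), (11, 11, 1), (12, 12, 1), (13, 13, 1), (14, 14, 1), (15, 15, 1), (16, 16, 1), (17, 17, 1), (18, 18, 1), (19, 19, 1), (20, 20, 1), (21, 21, 1), (22, 22, 1), (23, 23, 1), (24,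 24, 1), (25, 25, 1), (26, 26, 1), (27, 27, 1), (28, 28, 1), (29, 29, 1), (30, 30, 1), (31, 31, 1), (32, 32, 1), (33, 33, 1), (34, 34, 1), (35, 35, 1), (36, 36, 1), (37, 37, 1), (38, 38, 1), (39, 39, 1), (40, 40, 1), (41, 41, 1), (42, 42, 1), (43, 43, 1), (44, 44, 1), (45, 45, 1), (46, 46, 1), (47, 47, 1), (48, 48, 1), (49, 49, 1), (50, 50, 1), (51, 51, 1)], [(1, 22, 1), (7, 4, 1), (14, 11, 1), (16, 12, 1), (17, 13, 1), (18, 15, 1), (23, 19, 1), (24, 20, 1), (31, 25, 1), (32, 27, 1), (33, 0, 1), (33, 3, 1), (40, 37, 1), (42, 38, 1), (43, 39, 1), (44, 41, 1), (48, 45, 1)], [(10, 4, 1), (28, 19, 1), (30, 20, 1), (33, 22, 1), (35, 25, 1), (36, 27, 1), (51, 45, 1)], []], [[(0, 0, 1), (1, 1, 1), (2, 2, 1), (3, 3, 1), (4, 4, 1), (5, 5, 1), (6, 6, 1), (7, 7, 1), (8, 8, 1), (9, 9, 1), (10, 10, 1), (11, 11, 1), (12, 12, 1), (13,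 13, 1), (14, 14, 1), (15, 15, 1), (16, 16, 1), (17, 17, 1), (18, 18, 1), (19, 19, 1), (20, 20, 1), (21, 21, 1), (22, 22, 1), (23, 23, 1), (24, 24, 1), (25, 25, 1), (26, 26, 1), (27, 27, 1), (28, 28, 1), (29, 29, 1), (30, 30, 1), (31, 31, 1), (32, 32, 1), (33, 33, 1), (34, 34, 1), (35, 35, 1), (36, 36, 1), (37, 37, 1), (38, 38, 1), (39, 39, 1), (40, 40, 1), (41, 41, 1), (42, 42, 1), (43, 43, 1), (44, 44, 1), (45, 45, 1), (46, 46, 1), (47, 47, 1), (48, 48, 1), (49, 49, 1), (50, 50, 1), (51, 51, 1)], [(1, 21, 1), (2, 21, 1), (8, 5, 1), (9, 6, 1), (15, 11, 1), (18, 14, 1), (25, 19, 1), (27, 20, 1), (31, 23, 1), (32, 24, 1), (34, 3, 1), (35, 28, 1), (36, 30, 1), (41, 37, 1), (44, 40, 1), (49, 46, 1), (50, 47, 1)], [(34, 21, 1)], []], [[(0, 0, 1), (1, 1, 1), (2, 2, 1), (3, 3, 1), (4, 4, 1), (5, 5, 1), (6, 6, 1), (7, 7, 1),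 (8, 8, 1), (9, 9, 1), (10, 10, 1), (11, 11, 1), (12, 12, 1), (13, 13, 1), (14, 14, 1), (15, 15, 1), (16, 16, 1), (17, 17, 1), (18, 18, 1), (19, 19, 1), (20, 20, 1), (21, 21, 1), (22, 22, 1), (23, 23, 1), (24, 24, 1), (25, 25, 1), (26, 26, 1), (27, 27, 1), (28, 28, 1), (29, 29, 1), (30, 30, 1), (31, 31, 1), (32, 32, 1), (33, 33, 1), (34, 34, 1), (35, 35, 1), (36, 36, 1), (37, 37, 1), (38, 38, 1), (39, 39, 1), (40, 40, 1), (41, 41, 1), (42, 42, 1), (43, 43, 1), (44, 44, 1), (45, 45, 1), (46, 46, 1), (47, 47, 1), (48, 48, 1), (49, 49, 1), (50, 50, 1), (51, 51, 1)], [(1, 20, 1), (2, 20, 1), (3, 20, 1), (8, 4, 1), (10, 6, 1), (16, 11, 1), (18, 13, 1), (26, 19, 1), (28, 21, 1), (31, 22, 1), (33, 24, 1), (34, 27, 1), (35, 2, 1), (35, 3, 1), (36, 29, 1), (42, 37, 1), (44, 39, 1), (49, 45, 1), (51, 47, 1)], [(35, 20, 1)], []]]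

def isoF4ELc8 : List (List (List (ℕ × ℕ × ℤ))) :=
  [[[(0, 0, 1), (1, 1, 1), (2, 2, 1), (3, 3, 1), (4, 4, 1), (5, 5, 1), (6, 6, 1), (7, 7, 1), (8, 8, 1), (9, 9, 1), (10, 10, 1), (11, 11, 1), (12, 12, 1), (13, 13, 1), (14, 14, 1), (15, 15, 1), (16, 16, 1), (17, 17, 1), (18, 18, 1), (19, 19, 1), (20, 20, 1), (21, 21, 1), (22, 22, 1), (23, 23, 1), (24, 24, 1), (25, 25, 1), (26, 26, 1), (27, 27, 1), (28, 28, 1), (29, 29, 1), (30, 30, 1), (31, 31, 1), (32, 32, 1), (33, 33, 1), (34, 34, 1), (35, 35, 1), (36, 36, 1), (37, 37, 1), (38, 38, 1), (39, 39, 1), (40, 40, 1), (41, 41, 1), (42, 42, 1), (43, 43, 1), (44, 44, 1), (45, 45, 1), (46, 46, 1), (47, 47, 1), (48, 48, 1), (49, 49, 1), (50, 50, 1), (51, 51, 1)], [(1, 19, 1), (3, 19, 1), (9, 4, 1), (10, 5, 1), (17, 11, 1), (18, 12, 1), (29, 20, 1), (30, 21, 1), (32, 22, 1), (33,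 23, 1), (34, 25, 1), (35, 26, 1), (36, 2, 1), (43, 37, 1), (44, 38, 1), (50, 45, 1), (51, 46, 1)], [(36, 19, 1)], []], [[(0, 0, 1), (1, 1, 1), (2, 2, 1), (3, 3, 1), (4, 4, 1), (5, 5, 1), (6, 6, 1), (7, 7, 1), (8, 8, 1), (9, 9, 1), (10, 10, 1), (11, 11, 1), (12, 12, 1), (13, 13, 1), (14, 14, 1), (15, 15, 1), (16, 16, 1), (17, 17, 1), (18, 18, 1), (19, 19, 1), (20, 20, 1), (21, 21, 1), (22, 22, 1), (23, 23, 1), (24, 24, 1), (25, 25, 1), (26, 26, 1), (27, 27, 1), (28, 28, 1), (29, 29, 1), (30, 30, 1), (31, 31, 1), (32, 32, 1), (33, 33, 1), (34, 34, 1), (35, 35, 1), (36, 36, 1), (37, 37, 1), (38, 38, 1), (39, 39, 1), (40, 40, 1), (41, 41, 1), (42, 42, 1), (43, 43, 1), (44, 44, 1), (45, 45, 1), (46, 46, 1), (47, 47, 1), (48, 48, 1), (49, 49, 1), (50, 50, 1), (51, 51, 1)], [(0, 18, 1), (11, 7, 1), (12, 8, 1), (13, 9, 1), (14,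 10, 1), (22, 15, 1), (23, 16, 1), (24, 17, 1), (37, 1, 1), (38, 31, 1), (39, 32, 1), (40, 33, 1), (41, 34, 1), (42, 35, 1), (43, 36, 1), (48, 44, 1)], [(19, 8, 1), (20, 9, 1), (21, 10, 1), (37, 18, 1), (45, 34, 1), (46, 35, 1), (47, 36, 1)], []], [[(0, 0, 1), (1, 1, 1), (2, 2, 1), (3, 3, 1), (4, 4, 1), (5, 5, 1), (6, 6, 1), (7, 7, 1), (8, 8, 1), (9, 9, 1), (10, 10, 1), (11, 11, 1), (12, 12, 1), (13, 13, 1), (14, 14, 1), (15, 15, 1), (16, 16, 1), (17, 17, 1), (18, 18, 1), (19, 19, 1), (20, 20, 1), (21, 21, 1), (22, 22, 1), (23, 23, 1), (24, 24, 1), (25, 25, 1), (26, 26, 1), (27, 27, 1), (28, 28, 1), (29, 29, 1), (30, 30, 1), (31, 31, 1), (32, 32, 1), (33, 33, 1), (34, 34, 1), (35, 35, 1), (36, 36, 1), (37, 37, 1), (38, 38, 1), (39, 39, 1), (40, 40, 1), (41, 41, 1), (42, 42, 1), (43, 43, 1), (44, 44, 1), (45, 45, 1), (46,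 46, 1), (47, 47, 1), (48, 48, 1), (49, 49, 1), (50, 50, 1), (51, 51, 1)], [(0, 17, 1), (1, 17, 1), (11, 6, 1), (12, 7, 1), (15, 9, 1), (16, 10, 1), (22, 13, 1), (23, 14, 1), (31, 18, 1), (37, 24, 1), (38, 0, 1), (38, 1, 1), (38, 2, 1), (39, 29, 1), (40, 30, 1), (41, 32, 1), (42, 33, 1), (44, 36, 1), (48, 43, 1)], [(19, 6, 1), (25, 9, 1), (26, 10, 1), (38, 17, 1), (45, 29, 1), (46, 30, 1), (49, 36, 1)], []], [[(0, 0, 1), (1, 1, 1), (2, 2, 1), (3, 3, 1), (4, 4, 1), (5, 5, 1), (6, 6, 1), (7, 7, 1), (8, 8, 1), (9, 9, 1), (10, 10, 1), (11, 11, 1), (12, 12, 1), (13, 13, 1), (14, 14, 1), (15, 15, 1), (16, 16, 1), (17, 17, 1), (18, 18, 1), (19, 19, 1), (20, 20, 1), (21, 21, 1), (22, 22, 1), (23, 23, 1), (24, 24, 1), (25, 25, 1), (26, 26, 1), (27, 27, 1), (28, 28, 1), (29, 29, 1), (30, 30, 1), (31, 31, 1), (32, 32, 1), (33, 33,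 1), (34, 34, 1), (35, 35, 1), (36, 36, 1), (37, 37, 1), (38, 38, 1), (39, 39, 1), (40, 40, 1), (41, 41, 1), (42, 42, 1), (43, 43, 1), (44, 44, 1), (45, 45, 1), (46, 46, 1), (47, 47, 1), (48, 48, 1), (49, 49, 1), (50, 50, 1), (51, 51, 1)], [(0, 16, 1), (1, 16, 1), (11, 5, 1), (13, 7, 1), (15, 8, 1), (17, 10, 1), (22, 12, 1), (24, 14, 1), (32, 18, 1), (37, 23, 1), (38, 26, 1), (39, 0, 1), (39, 1, 1), (39, 2, 1), (39, 3, 1), (40, 28, 1), (41, 31, 1), (43, 33, 1), (44, 35, 1), (48, 42, 1)], [(20, 5, 1), (27, 8, 1), (29, 10, 1), (39, 16, 1), (45, 26, 1), (47, 28, 1), (50, 35, 1)], []]]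

def isoF4ELc9 : List (List (List (ℕ × ℕ × ℤ))) :=
  [[[(0, 0, 1), (1, 1, 1), (2, 2, 1), (3, 3, 1), (4, 4, 1), (5, 5, 1), (6, 6, 1), (7, 7, 1), (8, 8, 1), (9, 9, 1), (10, 10, 1), (11, 11, 1), (12, 12, 1), (13, 13, 1), (14, 14, 1), (15, 15, 1), (16, 16, 1), (17, 17, 1), (18, 18, 1), (19, 19, 1), (20, 20, 1), (21, 21, 1), (22, 22, 1), (23, 23, 1), (24, 24, 1), (25, 25, 1), (26, 26, 1), (27, 27, 1), (28, 28, 1), (29, 29, 1), (30, 30, 1), (31, 31, 1), (32, 32, 1), (33, 33, 1), (34, 34, 1), (35, 35, 1), (36, 36, 1), (37, 37, 1), (38, 38, 1), (39, 39, 1), (40, 40, 1), (41, 41, 1), (42, 42, 1), (43, 43, 1), (44, 44, 1), (45, 45, 1), (46, 46, 1), (47, 47, 1), (48, 48, 1), (49, 49, 1), (50, 50, 1), (51, 51, 1)], [(0, 15, 1), (1, 15, 1), (11, 4, 1), (14, 7, 1), (16, 8, 1), (17, 9, 1), (23, 12, 1), (24, 13, 1), (33, 18, 1), (37,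 22, 1), (38, 25, 1), (39, 27, 1), (40, 0, 1), (40, 1, 1), (40, 3, 1), (42, 31, 1), (43, 32, 1), (44, 34, 1), (48, 41, 1)], [(21, 4, 1), (28, 8, 1), (30, 9, 1), (40, 15, 1), (46, 25, 1), (47, 27, 1), (51, 34, 1)], []], [[(0, 0, 1), (1, 1, 1), (2, 2, 1), (3, 3, 1), (4, 4, 1), (5, 5, 1), (6, 6, 1), (7, 7, 1), (8, 8, 1), (9, 9, 1), (10, 10, 1), (11, 11, 1), (12, 12, 1), (13, 13, 1), (14, 14, 1), (15, 15, 1), (16, 16, 1), (17, 17, 1), (18, 18, 1), (19, 19, 1), (20, 20, 1), (21, 21, 1), (22, 22, 1), (23, 23, 1), (24, 24, 1), (25, 25, 1), (26, 26, 1), (27, 27, 1), (28, 28, 1), (29, 29, 1), (30, 30, 1), (31, 31, 1), (32, 32, 1), (33, 33, 1), (34, 34, 1), (35, 35, 1), (36, 36, 1), (37, 37, 1), (38, 38, 1), (39, 39, 1), (40, 40, 1), (41, 41, 1), (42, 42, 1), (43, 43, 1), (44, 44, 1), (45, 45, 1), (46, 46, 1), (47, 47, 1), (48,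 48, 1), (49, 49, 1), (50, 50, 1), (51, 51, 1)], [(0, 14, 1), (12, 5, 1), (13, 6, 1), (15, 7, 1), (18, 10, 1), (22, 11, 1), (31, 16, 1), (32, 17, 1), (37, 21, 1), (38, 23, 1), (39, 24, 1), (41, 1, 1), (41, 3, 1), (42, 28, 1), (43, 30, 1), (44, 33, 1), (48, 40, 1)], [(25, 5, 1), (27, 6, 1), (34, 10, 1), (41, 14, 1), (45, 21, 1), (49, 28, 1), (50, 30, 1)], []], [[(0, 0, 1), (1, 1, 1), (2, 2, 1), (3, 3, 1), (4, 4, 1), (5, 5, 1), (6, 6, 1), (7, 7, 1), (8, 8, 1), (9, 9, 1), (10, 10, 1), (11, 11, 1), (12, 12, 1), (13, 13, 1), (14, 14, 1), (15, 15, 1), (16, 16, 1), (17, 17, 1), (18, 18, 1), (19, 19, 1), (20, 20, 1), (21, 21, 1), (22, 22, 1), (23, 23, 1), (24, 24, 1), (25, 25, 1), (26, 26, 1), (27, 27, 1), (28, 28, 1), (29, 29, 1), (30, 30, 1), (31, 31, 1), (32, 32, 1), (33, 33, 1), (34, 34, 1), (35, 35, 1), (36, 36, 1), (37,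 37, 1), (38, 38, 1), (39, 39, 1), (40, 40, 1), (41, 41, 1), (42, 42, 1), (43, 43, 1), (44, 44, 1), (45, 45, 1), (46, 46, 1), (47, 47, 1), (48, 48, 1), (49, 49, 1), (50, 50, 1), (51, 51, 1)], [(0, 13, 1), (12, 4, 1), (14, 6, 1), (16, 7, 1), (18, 9, 1), (23, 11, 1), (31, 15, 1), (33, 17, 1), (37, 20, 1), (38, 22, 1), (40, 24, 1), (41, 27, 1), (42, 1, 1), (42, 2, 1), (42, 3, 1), (43, 29, 1), (44, 32, 1), (48, 39, 1)], [(26, 4, 1), (28, 6, 1), (35, 9, 1), (42, 13, 1), (46, 20, 1), (49, 27, 1), (51, 29, 1)], []], [[(0, 0, 1), (1, 1, 1), (2, 2, 1), (3, 3, 1), (4, 4, 1), (5, 5, 1), (6, 6, 1), (7, 7, 1), (8, 8, 1), (9, 9, 1), (10, 10, 1), (11, 11, 1), (12, 12, 1), (13, 13, 1), (14, 14, 1), (15, 15, 1), (16, 16, 1), (17, 17, 1), (18, 18, 1), (19, 19, 1), (20, 20, 1), (21, 21, 1), (22, 22, 1), (23, 23, 1), (24, 24, 1), (25, 25,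 1), (26, 26, 1), (27, 27, 1), (28, 28, 1), (29, 29, 1), (30, 30, 1), (31, 31, 1), (32, 32, 1), (33, 33, 1), (34, 34, 1), (35, 35, 1), (36, 36, 1), (37, 37, 1), (38, 38, 1), (39, 39, 1), (40, 40, 1), (41, 41, 1), (42, 42, 1), (43, 43, 1), (44, 44, 1), (45, 45, 1), (46, 46, 1), (47, 47, 1), (48, 48, 1), (49, 49, 1), (50, 50, 1), (51, 51, 1)], [(0, 12, 1), (13, 4, 1), (14, 5, 1), (17, 7, 1), (18, 8, 1), (24, 11, 1), (32, 15, 1), (33, 16, 1), (37, 19, 1), (39, 22, 1), (40, 23, 1), (41, 25, 1), (42, 26, 1), (43, 1, 1), (43, 2, 1), (44, 31, 1), (48, 38, 1)], [(29, 4, 1), (30, 5, 1), (36, 8, 1), (43, 12, 1), (47, 19, 1), (50, 25, 1), (51, 26, 1)], []]]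

def isoF4ELc10 : List (List (List (ℕ × ℕ × ℤ))) :=
  [[[(0, 0, 1), (1, 1, 1), (2, 2, 1), (3, 3, 1), (4, 4, 1), (5, 5, 1), (6, 6, 1), (7, 7, 1), (8, 8, 1), (9, 9, 1), (10, 10, 1), (11, 11, 1), (12, 12, 1), (13, 13, 1), (14, 14, 1), (15, 15, 1), (16, 16, 1), (17, 17, 1), (18, 18, 1), (19, 19, 1), (20, 20, 1), (21, 21, 1), (22, 22, 1), (23, 23, 1), (24, 24, 1), (25, 25, 1), (26, 26, 1), (27, 27, 1), (28, 28, 1), (29, 29, 1), (30, 30, 1), (31, 31, 1), (32, 32, 1), (33, 33, 1), (34, 34, 1), (35, 35, 1), (36, 36, 1), (37, 37, 1), (38, 38, 1), (39, 39, 1), (40, 40, 1), (41, 41, 1), (42, 42, 1), (43, 43, 1), (44, 44, 1), (45, 45, 1), (46, 46, 1), (47, 47, 1), (48, 48, 1), (49, 49, 1), (50, 50, 1), (51, 51, 1)], [(0, 11, 1), (1, 11, 1), (15, 4, 1), (16, 5, 1), (17, 6, 1), (18, 7, 1), (31, 12, 1), (32, 13, 1), (33, 14, 1), (38,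 19, 1), (39, 20, 1), (40, 21, 1), (41, 22, 1), (42, 23, 1), (43, 24, 1), (44, 0, 1), (44, 1, 1), (48, 37, 1)], [(34, 4, 1), (35, 5, 1), (36, 6, 1), (44, 11, 1), (49, 19, 1), (50, 20, 1), (51, 21, 1)], []], [[(0, 0, 1), (1, 1, 1), (2, 2, 1), (3, 3, 1), (4, 4, 1), (5, 5, 1), (6, 6, 1), (7, 7, 1), (8, 8, 1), (9, 9, 1), (10, 10, 1), (11, 11, 1), (12, 12, 1), (13, 13, 1), (14, 14, 1), (15, 15, 1), (16, 16, 1), (17, 17, 1), (18, 18, 1), (19, 19, 1), (20, 20, 1), (21, 21, 1), (22, 22, 1), (23, 23, 1), (24, 24, 1), (25, 25, 1), (26, 26, 1), (27, 27, 1), (28, 28, 1), (29, 29, 1), (30, 30, 1), (31, 31, 1), (32, 32, 1), (33, 33, 1), (34, 34, 1), (35, 35, 1), (36, 36, 1), (37, 37, 1), (38, 38, 1), (39, 39, 1), (40, 40, 1), (41, 41, 1), (42, 42, 1), (43, 43, 1), (44, 44, 1), (45, 45, 1), (46, 46, 1), (47, 47, 1), (48, 48, 1), (49,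 49, 1), (50, 50, 1), (51, 51, 1)], [(0, 10, 1), (1, 10, 1), (2, 10, 1), (19, 5, 1), (20, 6, 1), (22, 7, 1), (25, 8, 1), (27, 9, 1), (37, 14, 1), (38, 16, 1), (39, 17, 1), (41, 18, 1), (45, 3, 1), (46, 28, 1), (47, 30, 1), (48, 33, 1), (49, 35, 1), (50, 36, 1)], [(45, 10, 1)], []], [[(0, 0, 1), (1, 1, 1), (2, 2, 1), (3, 3, 1), (4, 4, 1), (5, 5, 1), (6, 6, 1), (7, 7, 1), (8, 8, 1), (9, 9, 1), (10, 10, 1), (11, 11, 1), (12, 12, 1), (13, 13, 1), (14, 14, 1), (15, 15, 1), (16, 16, 1), (17, 17, 1), (18, 18, 1), (19, 19, 1), (20, 20, 1), (21, 21, 1), (22, 22, 1), (23, 23, 1), (24, 24, 1), (25, 25, 1), (26, 26, 1), (27, 27, 1), (28, 28, 1), (29, 29, 1), (30, 30, 1), (31, 31, 1), (32, 32, 1), (33, 33, 1), (34, 34, 1), (35, 35, 1), (36, 36, 1), (37, 37, 1), (38, 38, 1), (39, 39, 1), (40, 40, 1), (41, 41, 1), (42, 42, 1), (43, 43,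 1), (44, 44, 1), (45, 45, 1), (46, 46, 1), (47, 47, 1), (48, 48, 1), (49, 49, 1), (50, 50, 1), (51, 51, 1)], [(0, 9, 1), (1, 9, 1), (2, 9, 1), (3, 9, 1), (19, 4, 1), (21, 6, 1), (23, 7, 1), (26, 8, 1), (28, 10, 1), (37, 13, 1), (38, 15, 1), (40, 17, 1), (42, 18, 1), (45, 27, 1), (46, 2, 1), (46, 3, 1), (47, 29, 1), (48, 32, 1), (49, 34, 1), (51, 36, 1)], [(46, 9, 1)], []], [[(0, 0, 1), (1, 1, 1), (2, 2, 1), (3, 3, 1), (4, 4, 1), (5, 5, 1), (6, 6, 1), (7, 7, 1), (8, 8, 1), (9, 9, 1), (10, 10, 1), (11, 11, 1), (12, 12, 1), (13, 13, 1), (14, 14, 1), (15, 15, 1), (16, 16, 1), (17, 17, 1), (18, 18, 1), (19, 19, 1), (20, 20, 1), (21, 21, 1), (22, 22, 1), (23, 23, 1), (24, 24, 1), (25, 25, 1), (26, 26, 1), (27, 27, 1), (28, 28, 1), (29, 29, 1), (30, 30, 1), (31, 31, 1), (32, 32, 1), (33, 33, 1), (34, 34, 1), (35, 35, 1), (36,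 36, 1), (37, 37, 1), (38, 38, 1), (39, 39, 1), (40, 40, 1), (41, 41, 1), (42, 42, 1), (43, 43, 1), (44, 44, 1), (45, 45, 1), (46, 46, 1), (47, 47, 1), (48, 48, 1), (49, 49, 1), (50, 50, 1), (51, 51, 1)], [(0, 8, 1), (1, 8, 1), (3, 8, 1), (20, 4, 1), (21, 5, 1), (24, 7, 1), (29, 9, 1), (30, 10, 1), (37, 12, 1), (39, 15, 1), (40, 16, 1), (43, 18, 1), (45, 25, 1), (46, 26, 1), (47, 2, 1), (48, 31, 1), (50, 34, 1), (51, 35, 1)], [(47, 8, 1)], []]]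

def isoF4ELc11 : List (List (List (ℕ × ℕ × ℤ))) :=
  [[[(0, 0, 1), (1, 1, 1), (2, 2, 1), (3, 3, 1), (4, 4, 1), (5, 5, 1), (6, 6, 1), (7, 7, 1), (8, 8, 1), (9, 9, 1), (10, 10, 1), (11, 11, 1), (12, 12, 1), (13, 13, 1), (14, 14, 1), (15, 15, 1), (16, 16, 1), (17, 17, 1), (18, 18, 1), (19, 19, 1), (20, 20, 1), (21, 21, 1), (22, 22, 1), (23, 23, 1), (24, 24, 1), (25, 25, 1), (26, 26, 1), (27, 27, 1), (28, 28, 1), (29, 29, 1), (30, 30, 1), (31, 31, 1), (32, 32, 1), (33, 33, 1), (34, 34, 1), (35, 35, 1), (36, 36, 1), (37, 37, 1), (38, 38, 1), (39, 39, 1), (40, 40, 1), (41, 41, 1), (42, 42, 1), (43, 43, 1), (44, 44, 1), (45, 45, 1), (46, 46, 1), (47, 47, 1), (48, 48, 1), (49, 49, 1), (50, 50, 1), (51, 51, 1)], [(1, 7, 1), (22, 4, 1), (23, 5, 1), (24, 6, 1), (31, 8, 1), (32, 9, 1), (33, 10, 1), (37, 11, 1), (38, 12, 1), (39,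 13, 1), (40, 14, 1), (41, 15, 1), (42, 16, 1), (43, 17, 1), (44, 18, 1), (48, 0, 1)], [(45, 4, 1), (46, 5, 1), (47, 6, 1), (48, 7, 1), (49, 8, 1), (50, 9, 1), (51, 10, 1)], []], [[(0, 0, 1), (1, 1, 1), (2, 2, 1), (3, 3, 1), (4, 4, 1), (5, 5, 1), (6, 6, 1), (7, 7, 1), (8, 8, 1), (9, 9, 1), (10, 10, 1), (11, 11, 1), (12, 12, 1), (13, 13, 1), (14, 14, 1), (15, 15, 1), (16, 16, 1), (17, 17, 1), (18, 18, 1), (19, 19, 1), (20, 20, 1), (21, 21, 1), (22, 22, 1), (23, 23, 1), (24, 24, 1), (25, 25, 1), (26, 26, 1), (27, 27, 1), (28, 28, 1), (29, 29, 1), (30, 30, 1), (31, 31, 1), (32, 32, 1), (33, 33, 1), (34, 34, 1), (35, 35, 1), (36, 36, 1), (37, 37, 1), (38, 38, 1), (39, 39, 1), (40, 40, 1), (41, 41, 1), (42, 42, 1), (43, 43, 1), (44, 44, 1), (45, 45, 1), (46, 46, 1), (47, 47, 1), (48, 48, 1), (49, 49, 1), (50, 50, 1), (51, 51,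 1)], [(0, 6, 1), (3, 6, 1), (25, 4, 1), (26, 5, 1), (31, 7, 1), (34, 9, 1), (35, 10, 1), (38, 11, 1), (41, 13, 1), (42, 14, 1), (44, 17, 1), (45, 20, 1), (46, 21, 1), (48, 24, 1), (49, 2, 1), (50, 29, 1), (51, 30, 1)], [(49, 6, 1)], []], [[(0, 0, 1), (1, 1, 1), (2, 2, 1), (3, 3, 1), (4, 4, 1), (5, 5, 1), (6, 6, 1), (7, 7, 1), (8, 8, 1), (9, 9, 1), (10, 10, 1), (11, 11, 1), (12, 12, 1), (13, 13, 1), (14, 14, 1), (15, 15, 1), (16, 16, 1), (17, 17, 1), (18, 18, 1), (19, 19, 1), (20, 20, 1), (21, 21, 1), (22, 22, 1), (23, 23, 1), (24, 24, 1), (25, 25, 1), (26, 26, 1), (27, 27, 1), (28, 28, 1), (29, 29, 1), (30, 30, 1), (31, 31, 1), (32, 32, 1), (33, 33, 1), (34, 34, 1), (35, 35, 1), (36, 36, 1), (37, 37, 1), (38, 38, 1), (39, 39, 1), (40, 40, 1), (41, 41, 1), (42, 42, 1), (43, 43, 1), (44, 44, 1), (45, 45, 1), (46, 46, 1),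 (47, 47, 1), (48, 48, 1), (49, 49, 1), (50, 50, 1), (51, 51, 1)], [(0, 5, 1), (2, 5, 1), (3, 5, 1), (27, 4, 1), (29, 6, 1), (32, 7, 1), (34, 8, 1), (36, 10, 1), (39, 11, 1), (41, 12, 1), (43, 14, 1), (44, 16, 1), (45, 19, 1), (47, 21, 1), (48, 23, 1), (49, 26, 1), (50, 2, 1), (50, 3, 1), (51, 28, 1)], [(50, 5, 1)], []], [[(0, 0, 1), (1, 1, 1), (2, 2, 1), (3, 3, 1), (4, 4, 1), (5, 5, 1), (6, 6, 1), (7, 7, 1), (8, 8, 1), (9, 9, 1), (10, 10, 1), (11, 11, 1), (12, 12, 1), (13, 13, 1), (14, 14, 1), (15, 15, 1), (16, 16, 1), (17, 17, 1), (18, 18, 1), (19, 19, 1), (20, 20, 1), (21, 21, 1), (22, 22, 1), (23, 23, 1), (24, 24, 1), (25, 25, 1), (26, 26, 1), (27, 27, 1), (28, 28, 1), (29, 29, 1), (30, 30, 1), (31, 31, 1), (32, 32, 1), (33, 33, 1), (34, 34, 1), (35, 35, 1), (36, 36, 1), (37, 37, 1), (38, 38, 1), (39, 39, 1), (40,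 40, 1), (41, 41, 1), (42, 42, 1), (43, 43, 1), (44, 44, 1), (45, 45, 1), (46, 46, 1), (47, 47, 1), (48, 48, 1), (49, 49, 1), (50, 50, 1), (51, 51, 1)], [(0, 4, 1), (2, 4, 1), (28, 5, 1), (30, 6, 1), (33, 7, 1), (35, 8, 1), (36, 9, 1), (40, 11, 1), (42, 12, 1), (43, 13, 1), (44, 15, 1), (46, 19, 1), (47, 20, 1), (48, 22, 1), (49, 25, 1), (50, 27, 1), (51, 3, 1)], [(51, 4, 1)], []]]

def isoF4EL : List (List (List (ℕ × ℕ × ℤ))) :=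
  isoF4ELc0 ++ isoF4ELc1 ++ isoF4ELc2 ++ isoF4ELc3 ++ isoF4ELc4 ++ isoF4ELc5 ++ isoF4ELc6 ++ isoF4ELc7 ++ isoF4ELc8 ++ isoF4ELc9 ++ isoF4ELc10 ++ isoF4ELc11

def isoF4Adc0 : List (List (ℕ × ℕ × ℤ)) :=
  [[(2, 2, 1), (3, 3, 1), (6, 6, 1), (7, 7, 1), (9, 9, 1), (10, 10, 1), (11, 11, 1), (12, 12, 1), (15, 15, 1), (16, 16, 1), (17, 17, 1), (18, 18, 1), (20, 20, 1), (21, 21, 1), (24, 24, 1), (25, 25, 1)], [(3, 3, 1), (4, 4, 1), (5, 5, 1), (6, 6, 1), (8, 8, 1), (9, 9, 1), (11, 11, 1), (13, 13, 1), (14, 14, 1), (16, 16, 1), (18, 18, 1), (19, 19, 1), (21, 21, 1), (22, 22, 1), (23, 23, 1), (24, 24, 1)], [(4, 4, 1), (5, 5, 1), (9, 9, 1), (10, 10, 1), (11, 11, 1), (12, 12, 1), (15, 15, 1), (16, 16, 1), (17, 17, 1), (18, 18, 1), (22, 22, 1), (23, 23, 1)], [(5, 5, 1), (6, 6, 1), (7, 7, 1), (8, 8, 1), (9, 9, 1), (10, 10, 1), (17, 17,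 1), (18, 18, 1), (19, 19, 1), (20, 20, 1), (21, 21, 1), (22, 22, 1)], [(2, 20, 1), (3, 21, 1), (4, 22, 1), (5, 23, 1), (6, 24, 1), (7, 25, 1)], [(2, 17, 1), (3, 18, 1), (4, 19, 1), (8, 23, 1), (9, 24, 1), (10, 25, 1)], [(2, 15, 1), (3, 16, 1), (5, 19, 1), (8, 22, 1), (11, 24, 1), (12, 25, 1)], [(0, 25, 1), (2, 1, 1), (3, 14, 1), (4, 16, 1), (5, 18, 1), (6, 19, 1), (8, 21, 1), (9, 22, 1), (11, 23, 1), (13, 24, 1)], [(2, 12, 1), (4, 14, 1), (6, 18, 1), (9, 21, 1), (13, 23, 1), (15, 25, 1)], [(2, 10, 1), (5, 14, 1), (6, 16, 1), (11, 21, 1), (13, 22, 1), (17, 25, 1)], [(2, 7, 1), (8, 14, 1), (9, 16, 1), (11, 18, 1), (13, 19, 1), (20, 25, 1)], [(0, 24, 1), (1, 24, 1), (2, 13, 1), (3, 0, 1), (3, 1, 1), (4, 15, 1), (5, 17, 1), (7, 19, 1), (8, 20, 1), (10, 22, 1), (12, 23, 1), (14, 25, 1)]]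

def isoF4Adc1 : List (List (ℕ × ℕ × ℤ)) :=
  [[(1, 23, 1), (2, 11, 1), (3, 12, 1), (4, 0, 1), (6, 17, 1), (7, 18, 1), (9, 20, 1), (10, 21, 1), (15, 24, 1), (16, 25, 1)], [(1, 22, 1), (2, 9, 1), (3, 10, 1), (5, 0, 1), (6, 15, 1), (7, 16, 1), (11, 20, 1), (12, 21, 1), (17, 24, 1), (18, 25, 1)], [(1, 19, 1), (2, 6, 1), (3, 7, 1), (8, 0, 1), (9, 15, 1), (10, 16, 1), (11, 17, 1), (12, 18, 1), (20, 24, 1), (21, 25, 1)], [(0, 21, 1), (1, 21, 1), (2, 8, 1), (4, 10, 1), (5, 12, 1), (6, 0, 1), (6, 1, 1), (7, 14, 1), (13, 20, 1), (15, 22, 1), (17, 23, 1), (19, 25, 1)], [(0, 18, 1), (1, 18, 1), (2, 5, 1), (4, 7, 1), (8, 12, 1), (9, 0, 1), (9, 1, 1), (10, 14, 1), (13, 17, 1), (15, 19, 1), (20, 23, 1), (22, 25, 1)], [(0, 16, 1), (1, 16, 1), (2, 4, 1), (5, 7, 1), (8, 10, 1), (11, 0, 1), (11, 1, 1), (12, 14, 1), (13, 15, 1), (17, 19,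 1), (20, 22, 1), (23, 25, 1)], [(1, 14, 1), (2, 3, 1), (6, 7, 1), (9, 10, 1), (11, 12, 1), (13, 0, 1), (15, 16, 1), (17, 18, 1), (20, 21, 1), (24, 25, 1)], [(3, 11, 1), (4, 13, 1), (7, 17, 1), (10, 20, 1), (14, 23, 1), (16, 24, 1)], [(3, 9, 1), (5, 13, 1), (7, 15, 1), (12, 20, 1), (14, 22, 1), (18, 24, 1)], [(3, 6, 1), (8, 13, 1), (10, 15, 1), (12, 17, 1), (14, 19, 1), (21, 24, 1)], [(0, 20, 1), (3, 8, 1), (4, 9, 1), (5, 11, 1), (6, 13, 1), (7, 1, 1), (14, 21, 1), (16, 22, 1), (18, 23, 1), (19, 24, 1)], [(0, 17, 1), (3, 5, 1), (4, 6, 1), (8, 11, 1), (9, 13, 1), (10, 1, 1), (14, 18, 1), (16, 19, 1), (21, 23, 1), (22, 24, 1)]]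

def isoF4Adc2 : List (List (ℕ × ℕ × ℤ)) :=
  [[(0, 15, 1), (3, 4, 1), (5, 6, 1), (8, 9, 1), (11, 13, 1), (12, 1, 1), (14, 16, 1), (18, 19, 1), (21, 22, 1), (23, 24, 1)], [(4, 8, 1), (6, 11, 1), (7, 12, 1), (15, 20, 1), (16, 21, 1), (19, 23, 1)], [(4, 5, 1), (9, 11, 1), (10, 12, 1), (15, 17, 1), (16, 18, 1), (22, 23, 1)], [(5, 8, 1), (6, 9, 1), (7, 10, 1), (17, 20, 1), (18, 21, 1), (19, 22, 1)], [(8, 5, 1), (9, 6, 1), (10, 7, 1), (20, 17, 1), (21, 18, 1), (22, 19, 1)], [(5, 4, 1), (11, 9, 1), (12, 10, 1), (17, 15, 1), (18, 16, 1), (23, 22, 1)], [(8, 4, 1), (11, 6, 1), (12, 7, 1), (20, 15, 1), (21, 16, 1), (23, 19, 1)], [(0, 12, 1), (4, 3, 1), (6, 5, 1), (9, 8, 1), (13, 11, 1), (15, 1, 1), (16, 14, 1), (19, 18, 1), (22, 21, 1), (24, 23, 1)], [(0, 10, 1), (5, 3, 1), (6, 4, 1), (11, 8, 1), (13, 9, 1), (17, 1, 1), (18, 14,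 1), (19, 16, 1), (23, 21, 1), (24, 22, 1)], [(0, 7, 1), (8, 3, 1), (9, 4, 1), (11, 5, 1), (13, 6, 1), (20, 1, 1), (21, 14, 1), (22, 16, 1), (23, 18, 1), (24, 19, 1)], [(6, 3, 1), (13, 8, 1), (15, 10, 1), (17, 12, 1), (19, 14, 1), (24, 21, 1)], [(9, 3, 1), (13, 5, 1), (15, 7, 1), (20, 12, 1), (22, 14, 1), (24, 18, 1)]]

def isoF4Adc3 : List (List (ℕ × ℕ × ℤ)) :=
  [[(11, 3, 1), (13, 4, 1), (17, 7, 1), (20, 10, 1), (23, 14, 1), (24, 16, 1)], [(1, 13, 1), (3, 2, 1), (7, 6, 1), (10, 9, 1), (12, 11, 1), (14, 0, 1), (16, 15, 1), (18, 17, 1), (21, 20, 1), (25, 24, 1)], [(0, 11, 1), (1, 11, 1), (4, 2, 1), (7, 5, 1), (10, 8, 1), (14, 12, 1), (15, 13, 1), (16, 0, 1), (16, 1, 1), (19, 17, 1), (22, 20, 1), (25, 23, 1)], [(0, 9, 1), (1, 9, 1), (5, 2, 1), (7, 4, 1), (12, 8, 1), (14, 10, 1), (17, 13, 1), (18, 0, 1), (18, 1, 1), (19,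 15, 1), (23, 20, 1), (25, 22, 1)], [(0, 6, 1), (1, 6, 1), (8, 2, 1), (10, 4, 1), (12, 5, 1), (14, 7, 1), (20, 13, 1), (21, 0, 1), (21, 1, 1), (22, 15, 1), (23, 17, 1), (25, 19, 1)], [(1, 8, 1), (6, 2, 1), (7, 3, 1), (15, 9, 1), (16, 10, 1), (17, 11, 1), (18, 12, 1), (19, 0, 1), (24, 20, 1), (25, 21, 1)], [(1, 5, 1), (9, 2, 1), (10, 3, 1), (15, 6, 1), (16, 7, 1), (20, 11, 1), (21, 12, 1), (22, 0, 1), (24, 17, 1), (25, 18, 1)], [(1, 4, 1), (11, 2, 1), (12, 3, 1), (17, 6, 1), (18, 7, 1), (20, 9, 1), (21, 10, 1), (23, 0, 1), (24, 15, 1), (25, 16, 1)], [(0, 3, 1), (1, 3, 1), (13, 2, 1), (15, 4, 1), (17, 5, 1), (19, 7, 1), (20, 8, 1), (22, 10, 1), (23, 12, 1), (24, 0, 1), (24, 1, 1), (25, 14, 1)], [(7, 2, 1), (14, 8, 1), (16, 9, 1), (18, 11, 1), (19, 13, 1), (25, 20, 1)], [(10, 2, 1), (14, 5, 1), (16, 6, 1), (21, 11, 1), (22,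 13, 1), (25, 17, 1)], [(12, 2, 1), (14, 4, 1), (18, 6, 1), (21, 9, 1), (23, 13, 1), (25, 15, 1)]]

def isoF4Adc4 : List (List (ℕ × ℕ × ℤ)) :=
  [[(0, 2, 1), (14, 3, 1), (16, 4, 1), (18, 5, 1), (19, 6, 1), (21, 8, 1), (22, 9, 1), (23, 11, 1), (24, 13, 1), (25, 1, 1)], [(15, 2, 1), (16, 3, 1), (19, 5, 1), (22, 8, 1), (24, 11, 1), (25, 12, 1)], [(17, 2, 1), (18, 3, 1), (19, 4, 1), (23, 8, 1), (24, 9, 1), (25, 10, 1)], [(20, 2, 1), (21, 3, 1), (22, 4, 1), (23, 5, 1), (24, 6, 1), (25, 7, 1)]]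

def isoF4Ad : List (List (ℕ × ℕ × ℤ)) :=
  isoF4Adc0 ++ isoF4Adc1 ++ isoF4Adc2 ++ isoF4Adc3 ++ isoF4Adc4

def isoF4Lamc0 : List (List (ℕ × ℕ × ℤ)) :=
  [[(2, 2, 1)], [(2, 2, 1), (3, 3, 1)], [(2, 2, 1), (3, 3, 1), (4, 4, 1)], [(4, 4, 1), (5, 5, 1)], [(2, 20, 1)], [(2, 17, 1)], [(2, 15, 1)], [(0, 25, 1)], [(2, 12, 1)], [(2, 10, 1)], [(2, 7, 1)], [(0, 24, 1)]]

def isoF4Lamc1 : List (List (ℕ × ℕ × ℤ)) :=
  [[(1, 23, 1)], [(1, 22, 1)], [(1, 19, 1)], [(0, 21, 1)], [(0, 18, 1)], [(0, 16, 1)], [(1, 14, 1)], [(3, 11, 1)], [(3, 9, 1)], [(3, 6, 1)], [(0, 20, 1)], [(0, 17, 1)]]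

def isoF4Lamc2 : List (List (ℕ × ℕ × ℤ)) :=
  [[(0, 15, 1)], [(4, 8, 1)], [(4, 5, 1)], [(5, 8, 1)], [(8, 5, 1)], [(5, 4, 1)], [(8, 4, 1)], [(0, 12, 1)], [(0, 10, 1)], [(0, 7, 1)], [(6, 3, 1)], [(9, 3, 1)]]

def isoF4Lamc3 : List (List (ℕ × ℕ × ℤ)) :=
  [[(11, 3, 1)], [(1, 13, 1)], [(0, 11, 1)], [(0, 9, 1)], [(0, 6, 1)], [(1, 8, 1)], [(1, 5, 1)], [(1, 4, 1)], [(0, 3, 1)], [(7, 2, 1)], [(10, 2, 1)], [(12, 2, 1)]]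

def isoF4Lamc4 : List (List (ℕ × ℕ × ℤ)) :=
  [[(0, 2, 1)], [(15, 2, 1)], [(17, 2, 1)], [(20, 2, 1)]]

def isoF4Lam : List (List (ℕ × ℕ × ℤ)) :=
  isoF4Lamc0 ++ isoF4Lamc1 ++ isoF4Lamc2 ++ isoF4Lamc3 ++ isoF4Lamc4

/-- The data of the isogeny of F4. -/
def isoF4 : IsoData Cfsg.Lie.chevF4 where
  p := 2
  m := 26
  lev a := isoF4Lev.getD (code a) 0
  qpos i := (decode Cfsg.Lie.chevF4 (isoF4Qpos.getD i.val 0)).getD (.inl ⟨0, by decide⟩)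
  qinv a := let q := isoF4Qinv.getD (code a) 26; if h : q < 26 then some ⟨q, h⟩ else none
  rho r := Fin.ofNat 48 (isoF4Rho.getD r.val 0)
  e r := isoF4Exp.getD r.val 1
  TT r k := ((isoF4TT.getD r.val []).getD k []).map (smallEntry 26)
  EL r k := ((isoF4EL.getD r.val []).getD k []).map (coordEntry Cfsg.Lie.chevF4 (.inl ⟨0, by decide⟩))
  ad a := (isoF4Ad.getD (code a) []).map (smallEntry 26)
  lam a := (isoF4Lam.getD (code a) []).map (smallEntry 26)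

end CfsgLib.ExcIsogeny
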