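import Cfsg.Agent.ExcIsogeny.Sparse
import Cfsg.Agent.Chevalley.Element
import Cfsg.Agent.Twisted.TableAut

/-!
# Exceptional isogenies of Chevalley groups in characteristic `p`

`IsoData` names a sub-quotient `V` of the adjoint module on which `x_r(t)` acts as `x_{ρ r}(t ^ e_r)`
acts on a module `V` on which the Lie algebra is faithful; reading the adjoint action off the
conjugation action on `V` gives the homomorphism `alphaGL`, and `alpha ∘ alpha` is the Frobenius.
-/

set_option autoImplicit false

namespace CfsgLib.ExcIsogeny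

open Cfsg.Lie CfsgLib.Chevalley

variable {D : ChevalleyDatum}

/-- The code of a coordinate. -/
def code (a : D.Idx) : ℕ := (finSumFinEquiv a : ℕ)

/-- The coordinate with a given code. -/
def decode (D : ChevalleyDatum) (c : ℕ) : Option D.Idx :=
  if h : c < D.rank + D.nroots then some (finSumFinEquiv.symm ⟨c, h⟩) else none

theorem decode_code (a : D.Idx) : decode D (code a) = some a := by
  have h : code a < D.rank + D.nroots := (finSumFinEquiv a).isLt
  rw [decode, dif_pos h]
  exact congrArg some (finSumFinEquiv.symm_apply_apply a)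

theorem eq_of_decode {c : ℕ} {a : D.Idx} (h : decode D c = some a) : c = code a := by
  unfold decode at h
  split at h
  · next hc =>
    cases h
    simp [code]
  · cases h

/-- The data of an exceptional isogeny. -/
structure IsoData (D : ChevalleyDatum) where
  p : ℕ
  m : ℕ
  lev : D.Idx → ℕ
  qpos : Fin m → D.Idx
  qinv : D.Idx → Option (Fin m)
  rho : Root D → Root D
  e : Root D → ℕ
  TT : Root D → ℕ → SpM (Fin m)
  EL : Root D → ℕ → SpM D.Idx
  ad : D.Idx → SpM (Fin m)
  lam : D.Idx → List (Fin m × Fin m × ℤ)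

/-- Read a table entry on `Fin n`. -/
def smallEntry (n : ℕ) [NeZero n] (x : ℕ × ℕ × ℤ) : Fin n × Fin n × ℤ :=
  (Fin.ofNat n x.1, Fin.ofNat n x.2.1, x.2.2)

/-- Read a table entry on the coordinates. -/
def coordEntry (D : ChevalleyDatum) (d : D.Idx) (x : ℕ × ℕ × ℤ) : D.Idx × D.Idx × ℤ :=
  ((decode D x.1).getD d, (decode D x.2.1).getD d, x.2.2)

/-- The divided power `k` of `ad e_r` as a sparse matrix. -/
def eSp (D : ChevalleyDatum) (r : Root D) (k : ℕ) : SpM D.Idx :=
  if k = 0 then ((List.finRange D.rank).map Sum.inl ++ (List.finRange D.nroots).map Sum.inr).map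
      fun a => (a, a, 1)
  else (ents D r k).filterMap fun x =>
    match decode D x.1, decode D x.2.1 with
    | some a, some b => some (a, b, x.2.2)
    | _, _ => none

variable (md : IsoData D)

/-- Restrict a sparse matrix to the sub-quotient. -/
def restrictSp (L : SpM D.Idx) : SpM (Fin md.m) :=
  L.filterMap fun x =>
    match md.qinv x.1, md.qinv x.2.1 with
    | some i, some j => some (i, j, x.2.2)
    | _, _ => none

/-- `T_i ad_b T_j` with sign, summed in one degree. -/
def conjSp (r : Root D) (b : D.Idx) (n : ℕ) : SpM (Fin md.m) :=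
  (List.range 4).flatMap fun i => (List.range 4).flatMap fun j =>
    if i + j = n then scaleSp ((-1) ^ j) (mulSp (mulSp (md.TT r i) (md.ad b)) (md.TT r j)) else []

/-- The image of `ad_b` in one degree. -/
def imageSp (u : Root D) (b : D.Idx) (n : ℕ) : SpM (Fin md.m) :=
  if n < 4 then (md.EL u n).flatMap fun x => if x.2.1 = b then scaleSp x.2.2 (md.ad x.1) else []
  else []

theorem filter_eq_singleton {α : Type*} [DecidableEq α] {a : α} :
    ∀ {L : List α}, L.Nodup → a ∈ L → L.filter (fun x => decide (x = a)) = [a]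
  | [], _, h => absurd h (by simp)
  | x :: L, hnd, h => by
    rw [List.nodup_cons] at hnd
    by_cases hx : x = a
    · subst hx
      rw [List.filter_cons_of_pos (by simp), List.filter_eq_nil_iff.mpr]
      intro y hy hc
      exact hnd.1 (of_decide_eq_true hc ▸ hy)
    · rw [List.filter_cons_of_neg (by simp [hx])]
      exact filter_eq_singleton hnd.2 ((List.mem_cons.mp h).resolve_left (Ne.symm hx))

/-- All coordinates. -/
def idxList (D : ChevalleyDatum) : List D.Idx :=
  (List.finRange D.rank).map Sum.inl ++ (List.finRange D.nroots).map Sum.inr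

theorem mem_idxList (a : D.Idx) : a ∈ idxList D := by
  rcases a with i | r <;> simp [idxList]

/-- The checks on one root. -/
def chkRoot (r : Root D) : Bool :=
  decide (md.rho (md.rho r) = r) && decide (md.e r * md.e (md.rho r) = md.p) &&
  (decide (md.e r = 1) || decide (md.e r = 2) || decide (md.e r = 3)) &&
  (List.range 4).all fun k =>
    zeroB md.p (md.EL r k ++ scaleSp (-1) (eSp D r k)) &&
    ((md.EL r k).all fun x => decide (md.lev x.1 ≤ md.lev x.2.1)) &&
    zeroB md.p ((if k * md.e r < 4 then restrictSp md (md.EL r (k * md.e r)) else []) ++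
      scaleSp (-1) (md.TT r k)) &&
    (decide (k % md.e r = 0) || zeroB md.p (restrictSp md (md.EL r k)))

/-- The conjugation identity at one root. -/
def chkConj (r : Root D) : Bool :=
  (idxList D).all fun b => (List.range 7).all fun n =>
    zeroB md.p (conjSp md r b n ++ scaleSp (-1) (imageSp md (md.rho r) b n))

/-- The conjugation identity on an interval of roots. -/
def chkConjFrom (a n : ℕ) : Bool :=
  (List.finRange D.nroots).all fun r => decide ((r : ℕ) < a ∨ a + n ≤ (r : ℕ)) || chkConj md r

theorem chkConjFrom_spec {a n : ℕ} (h : chkConjFrom md a n = true) {r : Root D}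
    (h1 : a ≤ (r : ℕ)) (h2 : (r : ℕ) < a + n) : chkConj md r = true := by
  have := List.all_eq_true.mp h r (List.mem_finRange r)
  rw [Bool.or_eq_true, decide_eq_true_eq] at this
  exact this.resolve_left (by omega)

/-- The checks on the coordinates. -/
def chkIdx : Bool :=
  ((List.finRange md.m).all fun i =>
    decide (md.lev (md.qpos i) = 1) && decide (md.qinv (md.qpos i) = some i)) &&
  (idxList D).all fun a =>
    (match md.qinv a with
      | some i => decide (md.qpos i = a)
      | none => decide (md.lev a ≠ 1)) &&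
    (idxList D).all fun b =>
      decide ((((md.lam a).map fun x => x.2.2 * valAt (md.ad b) x.1 x.2.1).sum -
        if a = b then 1 else 0) % (md.p : ℤ) = 0)

/-- A datum passing all checks. -/
structure IsoOk : Prop where
  good : Good D
  idx : chkIdx md = true
  root : ∀ r, chkRoot md r = true
  conj : ∀ r, chkConj md r = true

variable {md} (h : IsoOk md) {K : Type*} [Field K] [CharP K md.p]

/-- The sub-quotient block. -/
def qBlock (g : Matrix D.Idx D.Idx K) : Matrix (Fin md.m) (Fin md.m) K :=
  g.submatrix md.qpos md.qpos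

/-- Block upper triangular. -/
def IsTri (md : IsoData D) (g : Matrix D.Idx D.Idx K) : Prop :=
  ∀ a b, md.lev b < md.lev a → g a b = 0

theorem toM_eSp (hD : Good D) (r : Root D) (k : ℕ) :
    toM K (eSp D r k) = (E D r k).map (Int.cast : ℤ → K) := by
  ext a b
  rw [toM_apply, Matrix.map_apply]
  congr 1
  rcases eq_or_ne k 0 with rfl | hk
  · rw [eSp, if_pos rfl, E_zero, valAt, Matrix.one_apply, List.filter_map, List.map_map]
    rw [show (List.map Sum.inl (List.finRange D.rank) ++ List.map Sum.inr (List.finRange D.nroots))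
      = idxList D from rfl]
    have hnd : (idxList D).Nodup := by
      refine List.Nodup.append ((List.nodup_finRange _).map Sum.inl_injective)
        ((List.nodup_finRange _).map Sum.inr_injective) ?_
      simp [List.disjoint_left]
    by_cases hab : a = b
    · subst hab
      rw [if_pos rfl, show (List.filter ((fun x : D.Idx × D.Idx × ℤ => decide (x.1 = a) &&
        decide (x.2.1 = a)) ∘ fun a => (a, a, 1)) (idxList D)) = [a] from ?_]
      · simp
      · rw [List.filter_congr (q := fun x => decide (x = a)) (fun x _ => by simp)]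
        exact filter_eq_singleton hnd (mem_idxList a)
    · rw [if_neg hab, List.filter_eq_nil_iff.mpr]
      · simp
      · intro x _ hx
        simp only [Function.comp_apply, Bool.and_eq_true, decide_eq_true_eq] at hx
        exact hab (hx.1.symm.trans hx.2)
  · rw [eSp, if_neg hk, E_pos r hk, eMat, SMat.toMat_apply, SMat.den_ofEntries]
    show _ = entVal (ents D r k) (code a) (code b)
    induction ents D r k with
    | nil => simp [valAt, entVal_nil]
    | cons x L ih =>
      rw [entVal_cons, ← ih]
      rcases hx : decide ((x.1 = code a) ∧ (x.2.1 = code b)) with _ | _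
      · rw [if_neg (by simpa using hx), zero_add]
        rcases h1 : decode D x.1 with _ | a' <;> rcases h2 : decode D x.2.1 with _ | b' <;>
          simp [h1, h2, valAt, List.filter_cons]
        rw [if_neg]
        rintro ⟨rfl, rfl⟩
        simp [eq_of_decode h1, eq_of_decode h2] at hx
      · simp only [decide_eq_true_eq] at hx
        rw [if_pos hx, List.filterMap_cons_some (b := (a, b, x.2.2))
          (by rw [hx.1, hx.2, decode_code, decode_code])]
        simp [valAt, List.filter_cons]

include h

theorem toM_restrict (L : SpM D.Idx) :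
    toM K (restrictSp md L) = qBlock (md := md) (toM K L) := by
  have hq := h.idx
  simp only [chkIdx, Bool.and_eq_true, List.all_eq_true, decide_eq_true_eq] at hq
  have h1 : ∀ a i, md.qinv a = some i ↔ md.qpos i = a := by
    intro a i
    refine ⟨fun e => ?_, fun e => e ▸ (hq.1 i (List.mem_finRange i)).2⟩
    have := (hq.2 a (mem_idxList a)).1
    rw [e] at this
    simpa using this
  ext i j
  rw [qBlock, Matrix.submatrix_apply, toM_apply, toM_apply]
  congr 1
  induction L with
  | nil => rfl
  | cons x L ih =>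
    by_cases hx : x.1 = md.qpos i ∧ x.2.1 = md.qpos j
    · rw [show restrictSp md (x :: L) = (i, j, x.2.2) :: restrictSp md L from
        List.filterMap_cons_some (by rw [(h1 _ i).mpr hx.1.symm, (h1 _ j).mpr hx.2.symm])]
      simp only [valAt] at ih ⊢
      simp [List.filter_cons, hx, ih]
    · simp only [valAt] at ih ⊢
      rcases e1 : md.qinv x.1 with _ | i' <;> rcases e2 : md.qinv x.2.1 with _ | j' <;>
        simp [restrictSp, e1, e2, List.filter_cons, hx] <;>
        first
          | exact ih
          | (rw [if_neg]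
             · exact ih
             · rintro ⟨rfl, rfl⟩
               exact hx ⟨((h1 _ _).mp e1).symm, ((h1 _ _).mp e2).symm⟩)

theorem root_facts (r : Root D) {k : ℕ} (hk : k < 4) :
    toM K (md.EL r k) = (E D r k).map (Int.cast : ℤ → K) ∧
    (∀ x ∈ md.EL r k, md.lev x.1 ≤ md.lev x.2.1) ∧
    toM K (md.TT r k) = (if k * md.e r < 4
      then qBlock (md := md) ((E D r (k * md.e r)).map (Int.cast : ℤ → K)) else 0) ∧
    (k % md.e r ≠ 0 → qBlock (md := md) ((E D r k).map (Int.cast : ℤ → K)) = 0) := by
  have key : ∀ j, j < 4 → toM K (md.EL r j) = (E D r j).map (Int.cast : ℤ → K) := by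
    intro j hj
    have := h.root r
    simp only [chkRoot, Bool.and_eq_true, List.all_eq_true, List.mem_range] at this
    rw [toM_eq_of_zeroB (this.2 j hj).1.1.1, toM_eSp h.good]
  have := h.root r
  simp only [chkRoot, Bool.and_eq_true, List.all_eq_true, List.mem_range, Bool.or_eq_true,
    decide_eq_true_eq] at this
  obtain ⟨⟨⟨-, hlev⟩, hT⟩, hz⟩ := this.2 k hk
  refine ⟨key k hk, hlev, ?_, fun hne => ?_⟩
  · rw [← toM_eq_of_zeroB hT]
    split_ifs with hlt
    · rw [toM_restrict h, key _ hlt]
    · rfl
  · rcases hz with hz | hz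
    · exact absurd hz hne
    · rw [← key k hk, ← toM_restrict h]
      exact toM_eq_zero hz

theorem rho_rho (r : Root D) : md.rho (md.rho r) = r ∧ md.e r * md.e (md.rho r) = md.p ∧
    (md.e r = 1 ∨ md.e r = 2 ∨ md.e r = 3) := by
  have := h.root r
  simp only [chkRoot, Bool.and_eq_true, Bool.or_eq_true, decide_eq_true_eq] at this
  exact ⟨this.1.1.1, this.1.1.2, by tauto⟩

theorem isTri_xR (r : Root D) (t : K) : IsTri md (xR D K r t) := by
  intro a b hab
  rw [xR, Matrix.sum_apply]
  refine Finset.sum_eq_zero fun k hk => ?_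
  rw [Finset.mem_range] at hk
  obtain ⟨h1, h2, -, -⟩ := root_facts (K := K) h r hk
  rw [Matrix.smul_apply, ← h1, toM_apply]
  have : (md.EL r k).filter (fun x => decide (x.1 = a) && decide (x.2.1 = b)) = [] := by
    rw [List.filter_eq_nil_iff]
    intro x hx hc
    simp only [Bool.and_eq_true, decide_eq_true_eq] at hc
    have := h2 x hx
    rw [hc.1, hc.2] at this
    omega
  simp [valAt, this]

theorem IsTri.mul {g g' : Matrix D.Idx D.Idx K} (hg : IsTri md g) (hg' : IsTri md g') :
    IsTri md (g * g') := by
  intro a b hab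
  rw [Matrix.mul_apply]
  refine Finset.sum_eq_zero fun c _ => ?_
  by_cases hc : md.lev c < md.lev a
  · rw [hg a c hc, zero_mul]
  · rw [hg' c b (by omega), mul_zero]

theorem qBlock_mul {g g' : Matrix D.Idx D.Idx K} (hg : IsTri md g) (hg' : IsTri md g') :
    qBlock (md := md) (g * g') = qBlock (md := md) g * qBlock (md := md) g' := by
  have hq := h.idx
  simp only [chkIdx, Bool.and_eq_true, List.all_eq_true, decide_eq_true_eq] at hq
  have hl : ∀ i, md.lev (md.qpos i) = 1 := fun i => (hq.1 i (List.mem_finRange i)).1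
  have hinj : Function.Injective md.qpos := fun i j e => by
    have := (hq.1 i (List.mem_finRange i)).2
    rw [e, (hq.1 j (List.mem_finRange j)).2] at this
    exact (Option.some_injective _ this).symm
  ext i j
  simp only [qBlock, Matrix.mul_apply, Matrix.submatrix_apply]
  symm
  rw [← Finset.sum_image (f := fun c => g (md.qpos i) c * g' c (md.qpos j))
    (g := md.qpos) (fun x _ y _ e => hinj e)]
  refine Finset.sum_subset (Finset.subset_univ _) fun c _ hc => ?_
  have hc1 : md.lev c ≠ 1 := by
    intro h1
    have := (hq.2 c (mem_idxList c)).1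
    rcases e : md.qinv c with _ | k
    · simp [e, h1] at this
    · rw [e] at this
      exact hc (Finset.mem_image.mpr ⟨k, Finset.mem_univ _, by simpa using this⟩)
  rcases Nat.lt_or_gt_of_ne hc1 with h1 | h1
  · rw [hg _ _ (by rw [hl]; omega), zero_mul]
  · rw [hg' _ _ (by rw [hl]; omega), mul_zero]

theorem qBlock_one : qBlock (md := md) (1 : Matrix D.Idx D.Idx K) = 1 := by
  have hq := h.idx
  simp only [chkIdx, Bool.and_eq_true, List.all_eq_true, decide_eq_true_eq] at hq
  refine Matrix.submatrix_one _ fun i j e => ?_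
  have := (hq.1 i (List.mem_finRange i)).2
  rw [e, (hq.1 j (List.mem_finRange j)).2] at this
  exact (Option.some_injective _ this).symm

omit h

/-- The coordinate functional of the left inverse of `ad`. -/
def lamOf (md : IsoData D) (a : D.Idx) (M : Matrix (Fin md.m) (Fin md.m) K) : K :=
  ((md.lam a).map fun x => (x.2.2 : K) * M x.1 x.2.1).sum

/-- The image matrix of a pair of inverse matrices. -/
def alphaMat (md : IsoData D) (g g' : Matrix D.Idx D.Idx K) : Matrix D.Idx D.Idx K :=
  Matrix.of fun a b => lamOf md a (qBlock (md := md) g * toM K (md.ad b) * qBlock (md := md) g')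

include h

theorem lamOf_ad (a b : D.Idx) :
    lamOf md a (toM K (md.ad b)) = if a = b then (1 : K) else 0 := by
  have hq := h.idx
  simp only [chkIdx, Bool.and_eq_true, List.all_eq_true, decide_eq_true_eq] at hq
  have := (CharP.intCast_eq_zero_iff K md.p _).mpr
    (Int.dvd_of_emod_eq_zero ((hq.2 a (mem_idxList a)).2 b (mem_idxList b)))
  rw [Int.cast_sub, sub_eq_zero] at this
  rw [show (if a = b then (1 : K) else 0) = (((if a = b then 1 else 0 : ℤ)) : K) by split_ifs <;> simp,
    ← this, lamOf]
  simp only [toM_apply]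
  induction md.lam a with
  | nil => simp
  | cons x L ih => simp only [List.map_cons, List.sum_cons, ih, Int.cast_add, Int.cast_mul]

theorem lamOf_sum (a : D.Idx) (c : D.Idx → K) :
    lamOf md a (∑ b, c b • toM K (md.ad b)) = c a := by
  have hlin : lamOf md a (∑ b, c b • toM K (md.ad b)) =
      ∑ b, c b * lamOf md a (toM K (md.ad b)) := by
    simp only [lamOf, Matrix.sum_apply, Matrix.smul_apply, smul_eq_mul, Finset.mul_sum]
    induction md.lam a with
    | nil => simp
    | cons x L ih =>
      simp only [List.map_cons, List.sum_cons, ih, mul_add, Finset.sum_add_distrib]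
      congr 1
      exact Finset.sum_congr rfl fun b _ => by ring
  rw [hlin]
  simp [lamOf_ad h]

omit h

/-- A matrix whose block normalises the image of `ad`. -/
def Normalises (md : IsoData D) (g g' : Matrix D.Idx D.Idx K) (A : Matrix D.Idx D.Idx K) : Prop :=
  ∀ b, qBlock (md := md) g * toM K (md.ad b) * qBlock (md := md) g' = ∑ a, A a b • toM K (md.ad a)

include h

theorem Normalises.eq {g g' A : Matrix D.Idx D.Idx K} (hn : Normalises md g g' A) :
    alphaMat md g g' = A := by
  ext a b
  rw [alphaMat, Matrix.of_apply, hn b, lamOf_sum h]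

theorem Normalises.mul {g g' A k k' B : Matrix D.Idx D.Idx K} (h1 : Normalises md g g' A)
    (h2 : Normalises md k k' B) (t1 : IsTri md g) (t1' : IsTri md g') (t2 : IsTri md k)
    (t2' : IsTri md k') : Normalises md (g * k) (k' * g') (A * B) := by
  intro b
  rw [qBlock_mul h t1 t2, qBlock_mul h t2' t1',
    show ∀ x y a z w : Matrix (Fin md.m) (Fin md.m) K, x * y * a * (z * w) = x * (y * a * z) * w from
      fun x y a z w => by simp only [mul_assoc],
    h2 b, Finset.mul_sum, Finset.sum_mul]
  simp only [mul_smul_comm, smul_mul_assoc, h1 _, Finset.smul_sum, smul_smul, Matrix.mul_apply,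
    Finset.sum_smul]
  rw [Finset.sum_comm]
  exact Finset.sum_congr rfl fun a _ => Finset.sum_congr rfl fun c _ => by rw [mul_comm]

theorem normalises_one : Normalises md (1 : Matrix D.Idx D.Idx K) 1 1 := by
  intro b
  rw [qBlock_one h, one_mul, mul_one, Finset.sum_eq_single b]
  · rw [Matrix.one_apply_eq, one_smul]
  · intro a _ hab
    rw [Matrix.one_apply_ne hab, zero_smul]
  · simp

theorem qBlock_xR (r : Root D) (t : K) :
    qBlock (md := md) (xR D K r t) = ∑ n ∈ Finset.range 4, (t ^ md.e r) ^ n • toM K (md.TT r n) := by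
  have hsplit : qBlock (md := md) (xR D K r t) =
      ∑ k ∈ Finset.range 4, t ^ k • qBlock (md := md) ((E D r k).map (Int.cast : ℤ → K)) := by
    ext i j
    simp [qBlock, xR, Matrix.sum_apply]
  rw [hsplit]
  have f0 := root_facts (K := K) h r (show 0 < 4 by norm_num)
  have f1 := root_facts (K := K) h r (show 1 < 4 by norm_num)
  have f2 := root_facts (K := K) h r (show 2 < 4 by norm_num)
  have f3 := root_facts (K := K) h r (show 3 < 4 by norm_num)
  rcases (rho_rho h r).2.2 with he | he | he
  · simp [Finset.sum_range_succ, he, f0.2.2.1, f1.2.2.1, f2.2.2.1, f3.2.2.1]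
  · simp [Finset.sum_range_succ, he, f0.2.2.1, f1.2.2.1, f2.2.2.1, f3.2.2.1,
      f1.2.2.2 (by simp [he]), f3.2.2.2 (by simp [he])]
  · simp [Finset.sum_range_succ, he, f0.2.2.1, f1.2.2.1, f2.2.2.1, f3.2.2.1,
      f1.2.2.2 (by simp [he]), f2.2.2.2 (by simp [he])]

theorem conj_eq (r : Root D) (b : D.Idx) {n : ℕ} (hn : n < 7) :
    toM K (conjSp md r b n) = toM K (imageSp md (md.rho r) b n) := by
  have := h.conj r
  simp only [chkConj, List.all_eq_true, List.mem_range] at this
  exact toM_eq_of_zeroB (this b (mem_idxList b) n hn)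

theorem toM_imageSp (u : Root D) (b : D.Idx) {n : ℕ} (hn : n < 4) :
    toM K (imageSp md u b n) =
      ∑ a, (E D u n).map (Int.cast : ℤ → K) a b • toM K (md.ad a) := by
  rw [imageSp, if_pos hn, ← (root_facts (K := K) h u hn).1]
  induction md.EL u n with
  | nil => simp [toM]
  | cons x L ih =>
    rw [List.flatMap_cons, toM_append, ih, toM_cons]
    simp only [Matrix.add_apply, add_smul, Finset.sum_add_distrib]
    congr 1
    by_cases hb : x.2.1 = b
    · rw [if_pos hb, toM_scaleSp, Finset.sum_eq_single x.1]
      · rw [hb, Matrix.single_apply_same]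
      · intro a _ ha
        rw [Matrix.single_apply_of_ne _ _ _ _ _ (fun e => ha e.1.symm), zero_smul]
      · simp
    · rw [if_neg hb, toM_nil]
      symm
      refine Finset.sum_eq_zero fun a _ => ?_
      rw [Matrix.single_apply_of_ne _ _ _ _ _ (fun e => hb e.2), zero_smul]

theorem normalises_xR (r : Root D) (t : K) :
    Normalises md (xR D K r t) (xR D K r (-t)) (xR D K (md.rho r) (t ^ md.e r)) := by
  intro b
  have hneg : (-t) ^ md.e r = -(t ^ md.e r) := by
    rcases (rho_rho h r).2.2 with he | he | he <;> rw [he]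
    · simp
    · have h2 : md.p = 2 ∨ md.p = 4 ∨ md.p = 6 := by
        have := (rho_rho h r).2.1
        rw [he] at this
        rcases (rho_rho h (md.rho r)).2.2 with h' | h' | h' <;> rw [h'] at this <;> omega
      have h20 : (2 : K) = 0 := by
        rcases CharP.char_is_prime_or_zero K md.p with hp | hp
        · rcases h2 with e | e | e
          · exact_mod_cast (CharP.cast_eq_zero_iff K md.p 2).mpr (by rw [e])
          · rw [e] at hp; norm_num at hp
          · rw [e] at hp; norm_num at hp
        · omega
      linear_combination (t ^ 2) * h20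
    · ring
  rw [qBlock_xR h, qBlock_xR h, hneg]
  have hR : ∑ a, xR D K (md.rho r) (t ^ md.e r) a b • toM K (md.ad a) =
      ∑ n ∈ Finset.range 4, (t ^ md.e r) ^ n • toM K (imageSp md (md.rho r) b n) := by
    simp only [xR, Matrix.sum_apply, Matrix.smul_apply, Finset.sum_smul]
    rw [Finset.sum_comm]
    refine Finset.sum_congr rfl fun n hn => ?_
    rw [toM_imageSp h _ _ (Finset.mem_range.mp hn), Finset.smul_sum]
    simp only [smul_smul, smul_eq_mul]
  have c0 := conj_eq (K := K) h r b (show 0 < 7 by norm_num)
  have c1 := conj_eq (K := K) h r b (show 1 < 7 by norm_num)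
  have c2 := conj_eq (K := K) h r b (show 2 < 7 by norm_num)
  have c3 := conj_eq (K := K) h r b (show 3 < 7 by norm_num)
  have c4 := conj_eq (K := K) h r b (show 4 < 7 by norm_num)
  have c5 := conj_eq (K := K) h r b (show 5 < 7 by norm_num)
  have c6 := conj_eq (K := K) h r b (show 6 < 7 by norm_num)
  rw [hR]
  simp [conjSp, List.range_succ, toM_append, toM_scaleSp, toM_mulSp, toM_nil] at c0 c1 c2 c3 c4 c5 c6
  simp [imageSp, toM_nil] at c4 c5 c6
  simp only [Finset.sum_range_succ, Finset.sum_range_zero, zero_add, add_mul, mul_add,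
    smul_mul_assoc, mul_smul_comm, smul_smul]
  linear_combination (norm := module) ((t ^ md.e r) ^ 0) • c0 + ((t ^ md.e r) ^ 1) • c1 +
    ((t ^ md.e r) ^ 2) • c2 + ((t ^ md.e r) ^ 3) • c3 + ((t ^ md.e r) ^ 4) • c4 +
    ((t ^ md.e r) ^ 5) • c5 + (-((t ^ md.e r) ^ 6)) • c6

omit h

/-- The property carried along the group. -/
def Carried (md : IsoData D) (g : GL D.Idx K) : Prop :=
  IsTri md (g : Matrix D.Idx D.Idx K) ∧ IsTri md ((g⁻¹ : GL D.Idx K) : Matrix D.Idx D.Idx K) ∧
    ∃ A A' : Matrix D.Idx D.Idx K,
      Normalises md (g : Matrix D.Idx D.Idx K) ((g⁻¹ : GL D.Idx K) : Matrix D.Idx D.Idx K) A ∧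
      Normalises md ((g⁻¹ : GL D.Idx K) : Matrix D.Idx D.Idx K) (g : Matrix D.Idx D.Idx K) A'

include h

theorem carried_of_mem {g : GL D.Idx K} (hg : g ∈ D.group K) : Carried md g := by
  rw [group_eq_closure h.good] at hg
  induction hg using Subgroup.closure_induction with
  | mem x hx =>
    obtain ⟨r, t, rfl⟩ := hx
    rw [Carried, X_inv, coe_X, coe_X]
    refine ⟨isTri_xR h r t, isTri_xR h r (-t), _, xR D K (md.rho r) ((-t) ^ md.e r),
      normalises_xR h r t, ?_⟩
    have := normalises_xR h r (-t)
    rwa [neg_neg] at this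
  | one =>
    rw [Carried, inv_one, Units.val_one]
    have : IsTri md (1 : Matrix D.Idx D.Idx K) := fun a b hab => Matrix.one_apply_ne (by
      rintro rfl; omega)
    exact ⟨this, this, _, _, normalises_one h, normalises_one h⟩
  | mul x y _ _ ihx ihy =>
    obtain ⟨a1, a2, A, A', a3, a4⟩ := ihx
    obtain ⟨b1, b2, B, B', b3, b4⟩ := ihy
    rw [Carried, mul_inv_rev, Units.val_mul, Units.val_mul]
    exact ⟨IsTri.mul h a1 b1, IsTri.mul h b2 a2, _, _, Normalises.mul h a3 b3 a1 a2 b1 b2,
      Normalises.mul h b4 a4 b2 b1 a2 a1⟩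
  | inv x _ ih =>
    obtain ⟨a1, a2, A, A', a3, a4⟩ := ih
    rw [Carried, inv_inv]
    exact ⟨a2, a1, A', A, a4, a3⟩

/-- The isogeny as a map into matrices. -/
def alphaHomMat : ↥(D.group K) →* Matrix D.Idx D.Idx K where
  toFun g := alphaMat md ((g : GL D.Idx K) : Matrix D.Idx D.Idx K)
    (((g : GL D.Idx K)⁻¹ : GL D.Idx K) : Matrix D.Idx D.Idx K)
  map_one' := by
    simpa using Normalises.eq h (normalises_one (K := K) h)
  map_mul' g g' := by
    obtain ⟨a1, a2, A, A', a3, a4⟩ := carried_of_mem h g.2
    obtain ⟨b1, b2, B, B', b3, b4⟩ := carried_of_mem h g'.2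
    simp only [Subgroup.coe_mul, mul_inv_rev, Units.val_mul]
    rw [Normalises.eq h (Normalises.mul h a3 b3 a1 a2 b1 b2), Normalises.eq h a3, Normalises.eq h b3]

/-- The isogeny as a map into the general linear group. -/
def alphaGL : ↥(D.group K) →* GL D.Idx K := (alphaHomMat h).toHomUnits

theorem alphaGL_X (r : Root D) (t : K) :
    alphaGL h ⟨X h.good r t, X_mem_group h.good r t⟩ = X h.good (md.rho r) (t ^ md.e r) := by
  apply Units.ext
  show alphaMat md _ _ = _
  rw [X_inv, coe_X, coe_X, coe_X, Normalises.eq h (normalises_xR h r t)]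

theorem alphaGL_mem (g : ↥(D.group K)) : alphaGL h g ∈ D.group K := by
  obtain ⟨g, hg⟩ := g
  have hg' := hg
  rw [group_eq_closure h.good] at hg'
  induction hg' using Subgroup.closure_induction with
  | mem x hx =>
    obtain ⟨r, t, rfl⟩ := hx
    rw [alphaGL_X]
    exact X_mem_group _ _ _
  | one =>
    rw [show (⟨1, hg⟩ : ↥(D.group K)) = 1 from rfl, map_one]
    exact one_mem _
  | mul x y hx hy ihx ihy =>
    rw [← group_eq_closure h.good] at hx hy
    rw [show (⟨x * y, hg⟩ : ↥(D.group K)) = ⟨x, hx⟩ * ⟨y, hy⟩ from rfl, map_mul]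
    exact mul_mem (ihx hx) (ihy hy)
  | inv x hx ihx =>
    rw [← group_eq_closure h.good] at hx
    rw [show (⟨x⁻¹, hg⟩ : ↥(D.group K)) = ⟨x, hx⟩⁻¹ from rfl, map_inv]
    exact inv_mem (ihx hx)

/-- The exceptional isogeny. -/
def alpha : ↥(D.group K) →* ↥(D.group K) := (alphaGL h).codRestrict _ (alphaGL_mem h)

theorem alpha_X (r : Root D) (t : K) :
    alpha h ⟨X h.good r t, X_mem_group h.good r t⟩ =
      ⟨X h.good (md.rho r) (t ^ md.e r), X_mem_group h.good _ _⟩ :=
  Subtype.ext (alphaGL_X h r t)

theorem alpha_x (g : ↥(D.group K)) {r : Root D} {t : K}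
    (hg : ((g : GL D.Idx K) : Matrix D.Idx D.Idx K) = D.x K r t) :
    ((alpha h g : GL D.Idx K) : Matrix D.Idx D.Idx K) = D.x K (md.rho r) (t ^ md.e r) := by
  have : g = ⟨X h.good r t, X_mem_group h.good r t⟩ :=
    Subtype.ext ((coe_eq_x_iff h.good r.isLt).mp hg)
  rw [this, alpha_X, x_eq_xR h.good]
  rfl

/-- The square of the isogeny is the Frobenius. -/
theorem alpha_alpha (φ : K ≃+* K) (hφ : ∀ x, φ x = x ^ md.p) (g : ↥(D.group K)) :
    alpha h (alpha h g) = (Twisted.permutes_fieldMap D φ).aut g := by
  suffices H : (alpha (K := K) h).comp (alpha h) =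
      ((Twisted.permutes_fieldMap D φ).aut).toMonoidHom from DFunLike.congr_fun H g
  refine MonoidHom.eq_of_eqOn_dense
    (s := {x : ↥(D.group K) | ∃ r t, X h.good r t = (x : GL D.Idx K)}) ?_ ?_
  · rw [eq_top_iff]
    rintro ⟨y, hy⟩ -
    have hy' := hy
    rw [group_eq_closure h.good] at hy'
    induction hy' using Subgroup.closure_induction with
    | mem x hx => exact Subgroup.subset_closure hx
    | one => exact one_mem _
    | mul a b ha hb iha ihb =>
      rw [← group_eq_closure h.good] at ha hb
      exact mul_mem (iha ha) (ihb hb)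
    | inv a ha iha =>
      rw [← group_eq_closure h.good] at ha
      exact inv_mem (iha ha)
  · rintro x ⟨r, t, hx⟩
    have hxe : x = ⟨X h.good r t, X_mem_group h.good r t⟩ := Subtype.ext hx.symm
    apply Subtype.ext
    apply Units.ext
    rw [MonoidHom.comp_apply]
    show _ = (((Twisted.permutes_fieldMap D φ).aut x : ↥(D.group K)) : GL D.Idx K).val
    rw [hxe, alpha_X, alpha_X, (rho_rho h r).1, ← pow_mul, (rho_rho h r).2.1, coe_X]
    rw [(Twisted.permutes_fieldMap D φ).aut_x _ r.isLt (x_eq_xR h.good K r t).symm]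
    simp only [id_eq, hφ]
    exact (x_eq_xR h.good K r _).symm

theorem alpha_bijective (hperf : ∀ x : K, ∃ y : K, y ^ md.p = x) (hp : md.p.Prime) :
    Function.Bijective (alpha (K := K) h) := by
  have : Fact md.p.Prime := ⟨hp⟩
  let φ : K ≃+* K := RingEquiv.ofBijective (frobenius K md.p)
    ⟨frobenius_inj K md.p, fun x => by simpa [frobenius_def] using hperf x⟩
  have hφ : ∀ x, φ x = x ^ md.p := fun x => frobenius_def md.p x
  have hsq : (alpha (K := K) h) ∘ (alpha h) = ⇑((Twisted.permutes_fieldMap D φ).aut) :=
    funext (alpha_alpha h φ hφ)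
  refine ⟨Function.Injective.of_comp (f := alpha h) ?_, Function.Surjective.of_comp (g := alpha h) ?_⟩
  · rw [hsq]; exact ((Twisted.permutes_fieldMap D φ).aut).injective
  · rw [hsq]; exact ((Twisted.permutes_fieldMap D φ).aut).surjective

end CfsgLib.ExcIsogeny
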