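import Mathlib

/-! # Sparse integral matrices read in characteristic `p` -/

set_option autoImplicit false

namespace CfsgLib.ExcIsogeny

/-- A sparse matrix as a list of entries (row, column, value). -/
abbrev SpM (ι : Type) : Type := List (ι × ι × ℤ)

variable {ι : Type} [DecidableEq ι] {R : Type*} [CommRing R]

/-- The matrix of a sparse matrix. -/
def toM (R : Type*) [CommRing R] (L : SpM ι) : Matrix ι ι R :=
  (L.map fun x => Matrix.single x.1 x.2.1 (x.2.2 : R)).sum

/-- The integer value at a position. -/
def valAt (L : SpM ι) (i j : ι) : ℤ :=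
  ((L.filter fun x => decide (x.1 = i) && decide (x.2.1 = j)).map fun x => x.2.2).sum

theorem toM_nil : toM R ([] : SpM ι) = 0 := rfl

theorem toM_cons (x : ι × ι × ℤ) (L : SpM ι) :
    toM R (x :: L) = Matrix.single x.1 x.2.1 (x.2.2 : R) + toM R L := by
  simp [toM]

theorem toM_append (L L' : SpM ι) : toM R (L ++ L') = toM R L + toM R L' := by simp [toM]

theorem toM_apply (L : SpM ι) (i j : ι) : toM R L i j = (valAt L i j : R) := by
  induction L with
  | nil => simp [toM, valAt]
  | cons x L ih =>
    rw [toM_cons, Matrix.add_apply, ih, Matrix.single_apply]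
    by_cases h : x.1 = i ∧ x.2.1 = j
    · simp [valAt, List.filter_cons, h]
    · simp [valAt, List.filter_cons, h]

/-- Multiply every entry by an integer. -/
def scaleSp (c : ℤ) (L : SpM ι) : SpM ι := L.map fun x => (x.1, x.2.1, c * x.2.2)

theorem toM_scaleSp (c : ℤ) (L : SpM ι) : toM R (scaleSp c L) = (c : R) • toM R L := by
  induction L with
  | nil => simp [scaleSp, toM]
  | cons x L ih =>
    rw [show scaleSp c (x :: L) = (x.1, x.2.1, c * x.2.2) :: scaleSp c L from rfl, toM_cons, ih,
      toM_cons, smul_add, Matrix.smul_single, Int.cast_mul, smul_eq_mul]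

/-- Product of sparse matrices. -/
def mulSp (L L' : SpM ι) : SpM ι :=
  L.flatMap fun x => L'.filterMap fun y =>
    if x.2.1 = y.1 then some (x.1, y.2.1, x.2.2 * y.2.2) else none

theorem toM_mulSp [Fintype ι] (L L' : SpM ι) : toM R (mulSp L L') = toM R L * toM R L' := by
  induction L with
  | nil => simp [mulSp, toM]
  | cons x L ih =>
    rw [show mulSp (x :: L) L' = (L'.filterMap fun y =>
        if x.2.1 = y.1 then some (x.1, y.2.1, x.2.2 * y.2.2) else none) ++ mulSp L L' from rfl,
      toM_append, ih, toM_cons, add_mul]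
    congr 1
    clear ih
    induction L' with
    | nil => simp [toM]
    | cons y L' ih' =>
      rw [toM_cons, mul_add, ← ih']
      by_cases h : x.2.1 = y.1
      · rw [List.filterMap_cons_some (by rw [if_pos h]), toM_cons, h, Matrix.single_mul_single_same,
          Int.cast_mul]
      · rw [List.filterMap_cons_none (by rw [if_neg h]),
          Matrix.single_mul_single_of_ne (i := x.1) (j := x.2.1) (c := (x.2.2 : R)) _ h _,
          zero_add]

theorem toM_flatMap {α : Type*} (f : α → SpM ι) (L : List α) :
    toM R (L.flatMap f) = (L.map fun a => toM R (f a)).sum := by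
  induction L with
  | nil => rfl
  | cons a L ih => simp [toM_append, ih]

/-- Every aggregated entry is divisible by `p`. -/
def zeroB (p : ℕ) (L : SpM ι) : Bool :=
  L.all fun x => decide (valAt L x.1 x.2.1 % (p : ℤ) = 0)

theorem toM_eq_zero {p : ℕ} [CharP R p] {L : SpM ι} (h : zeroB p L = true) : toM R L = 0 := by
  ext i j
  rw [toM_apply, Matrix.zero_apply]
  by_cases hij : ∃ x ∈ L, x.1 = i ∧ x.2.1 = j
  · obtain ⟨x, hx, rfl, rfl⟩ := hij
    rw [CharP.intCast_eq_zero_iff R p]
    exact Int.dvd_of_emod_eq_zero (of_decide_eq_true (List.all_eq_true.mp h x hx))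
  · have : (L.filter fun x => decide (x.1 = i) && decide (x.2.1 = j)) = [] := by
      rw [List.filter_eq_nil_iff]
      intro x hx hc
      simp only [Bool.and_eq_true, decide_eq_true_eq] at hc
      exact hij ⟨x, hx, hc⟩
    simp [valAt, this]

theorem toM_eq_of_zeroB {p : ℕ} [CharP R p] {L L' : SpM ι}
    (h : zeroB p (L ++ scaleSp (-1) L') = true) : toM R L = toM R L' := by
  have := toM_eq_zero (R := R) h
  rw [toM_append, toM_scaleSp, Int.cast_neg, Int.cast_one, neg_smul, one_smul] at this
  exact add_neg_eq_zero.mp this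

end CfsgLib.ExcIsogeny
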